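import Mathlib

/-!
# Injective maps with flat cokernel stay injective after tensoring
-/

set_option autoImplicit false
set_option linter.style.haveILetI false
universe u v

open TensorProduct

namespace Groth.Agent.H27Misc

theorem aux_lTensor_injective {R : Type u} [CommRing R] {K F M : Type*} [AddCommGroup K] [Module R K]
    [AddCommGroup F] [Module R F] [AddCommGroup M] [Module R M] [Module.Flat R F]
    (f₁ : K →ₗ[R] F) (f₂ : F →ₗ[R] M) (hf₁ : Function.Injective f₁) (hfe : Function.Exact f₁ f₂)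
    (hf : Function.Surjective f₂) {N₁ N₂ N₃ : Type*} [AddCommGroup N₁] [Module R N₁] [AddCommGroup N₂]
    [Module R N₂] [AddCommGroup N₃] [Module R N₃] [Module.Flat R N₃] {g₁ : N₁ →ₗ[R] N₂} {g₂ : N₂ →ₗ[R] N₃}
    (hg : Function.Injective g₁) (hex : Function.Exact g₁ g₂) (hs : Function.Surjective g₂) :
    Function.Injective (g₁.lTensor M) := by
  have h1 : Function.Injective (f₁.rTensor N₃) := Module.Flat.rTensor_preserves_injective_linearMap f₁ hf₁
  have h2 : Function.Injective (g₁.lTensor F) := Module.Flat.lTensor_preserves_injective_linearMap g₁ hg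
  exact lTensor_injective_of_exact_of_exact_of_rTensor_injective hfe hf hex hs h1 h2

set_option synthInstance.maxHeartbeats 200000 in
theorem lTensor_injective_of_flat_cokernel {R : Type u} [CommRing R] (M : Type*) [AddCommGroup M] [Module R M]
    {N₁ N₂ N₃ : Type*} [AddCommGroup N₁] [Module R N₁] [AddCommGroup N₂] [Module R N₂]
    [AddCommGroup N₃] [Module R N₃] [Module.Flat R N₃] {g₁ : N₁ →ₗ[R] N₂} {g₂ : N₂ →ₗ[R] N₃}
    (hg : Function.Injective g₁) (hex : Function.Exact g₁ g₂) (hs : Function.Surjective g₂) :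
    Function.Injective (g₁.lTensor M) := by
  let f₂ : (M →₀ R) →ₗ[R] M := Finsupp.linearCombination R id
  let K : Submodule R (M →₀ R) := LinearMap.ker f₂
  exact @aux_lTensor_injective R _ K (M →₀ R) M K.addCommGroup K.module _ _ _ _ _ K.subtype f₂
    K.injective_subtype (LinearMap.exact_subtype_ker_map f₂)
    (Finsupp.linearCombination_id_surjective R M) _ _ _ _ _ _ _ _ _ _ g₁ g₂ hg hex hs

/-- Two ideals meeting in zero with flat sum quotient keep this after base change. -/
theorem map_inf_map_eq_bot {R : Type*} {A : Type*} [CommRing R] [CommRing A] [Algebra R A] (I J : Ideal A)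
    (hIJ : I ⊓ J = ⊥) [Module.Flat R (A ⧸ (I ⊔ J))] (R' : Type*) [CommRing R'] [Algebra R R'] :
    I.map (Algebra.TensorProduct.includeRight : A →ₐ[R] R' ⊗[R] A) ⊓
      J.map (Algebra.TensorProduct.includeRight : A →ₐ[R] R' ⊗[R] A) = ⊥ := by
  let qI := Ideal.Quotient.mkₐ R I
  let qJ := Ideal.Quotient.mkₐ R J
  let g₁ : A →ₗ[R] (A ⧸ I) × (A ⧸ J) := qI.toLinearMap.prod qJ.toLinearMap
  let g₂ : (A ⧸ I) × (A ⧸ J) →ₗ[R] A ⧸ (I ⊔ J) :=
    (Ideal.Quotient.factorₐ R le_sup_left).toLinearMap.comp (LinearMap.fst R (A ⧸ I) (A ⧸ J)) -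
      (Ideal.Quotient.factorₐ R le_sup_right).toLinearMap.comp (LinearMap.snd R (A ⧸ I) (A ⧸ J))
  have hinj : Function.Injective g₁ := by
    rw [injective_iff_map_eq_zero]
    intro a ha
    obtain ⟨h1, h2⟩ := Prod.mk.inj ha
    have : a ∈ I ⊓ J := ⟨Ideal.Quotient.eq_zero_iff_mem.mp h1, Ideal.Quotient.eq_zero_iff_mem.mp h2⟩
    rwa [hIJ, Ideal.mem_bot] at this
  have hsurj : Function.Surjective g₂ := by
    intro z
    obtain ⟨a, rfl⟩ := Ideal.Quotient.mk_surjective z
    exact ⟨(Ideal.Quotient.mk I a, 0), by simp [g₂]⟩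
  have hex : Function.Exact g₁ g₂ := by
    rintro ⟨x, y⟩
    obtain ⟨a, rfl⟩ := Ideal.Quotient.mk_surjective x
    obtain ⟨b, rfl⟩ := Ideal.Quotient.mk_surjective y
    constructor
    · intro h
      have h' : Ideal.Quotient.mk (I ⊔ J) (a - b) = 0 := by simpa [g₂] using h
      obtain ⟨i, hi, j, hj, hij⟩ := Submodule.mem_sup.mp (Ideal.Quotient.eq_zero_iff_mem.mp h')
      refine ⟨a - i, Prod.ext (Ideal.Quotient.eq.mpr ?_) (Ideal.Quotient.eq.mpr ?_)⟩
      · simpa using hi
      · rwa [show a - i - b = j by linear_combination -hij]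
    · rintro ⟨c, hc⟩
      rw [← hc]
      simp [g₁, g₂, qI, qJ]
  refine eq_bot_iff.mpr fun z hz => ?_
  have hI : Algebra.TensorProduct.map (AlgHom.id R R') qI z = 0 := by
    refine (Ideal.map_le_iff_le_comap.mpr (fun a ha => ?_) : _ ≤ RingHom.ker (Algebra.TensorProduct.map (AlgHom.id R R') qI)) hz.1
    simp [qI, Ideal.Quotient.eq_zero_iff_mem.mpr ha]
  have hJ : Algebra.TensorProduct.map (AlgHom.id R R') qJ z = 0 := by
    refine (Ideal.map_le_iff_le_comap.mpr (fun a ha => ?_) : _ ≤ RingHom.ker (Algebra.TensorProduct.map (AlgHom.id R R') qJ)) hz.2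
    simp [qJ, Ideal.Quotient.eq_zero_iff_mem.mpr ha]
  rw [Ideal.mem_bot]
  apply lTensor_injective_of_flat_cokernel R' hinj hex hsurj
  rw [map_zero]
  apply (TensorProduct.prodRight R R R' (A ⧸ I) (A ⧸ J)).injective
  rw [map_zero]
  have h1 : (TensorProduct.prodRight R R R' (A ⧸ I) (A ⧸ J)).toLinearMap ∘ₗ g₁.lTensor R' =
      (qI.toLinearMap.lTensor R').prod (qJ.toLinearMap.lTensor R') := TensorProduct.ext' fun _ _ => rfl
  exact (LinearMap.congr_fun h1 z).trans (Prod.ext hI hJ)

theorem isReduced_of_flat_reduction {A : Type u} {B : Type v} [CommRing A] [CommRing B] [Algebra A B]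
    [IsNoetherianRing B] [Module.Flat A (B ⧸ nilradical B)]
    (hfib : ∀ p : PrimeSpectrum A, IsReduced (p.asIdeal.ResidueField ⊗[A] B)) : IsReduced B := by
  let N := nilradical B
  have hzero : ∀ (p : Ideal A) [p.IsPrime], Subsingleton (p.ResidueField ⊗[A] N) := by
    intro p _
    haveI := hfib ⟨p, inferInstance⟩
    let g₁ : N →ₗ[A] B := (Submodule.subtype N).restrictScalars A
    have hinj := lTensor_injective_of_flat_cokernel p.ResidueField (g₁ := g₁)
      (g₂ := (Ideal.Quotient.mkₐ A N).toLinearMap) Subtype.val_injective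
      (fun x => ⟨fun h => ⟨⟨x, Ideal.Quotient.eq_zero_iff_mem.mp h⟩, rfl⟩,
        fun ⟨y, hy⟩ => hy ▸ Ideal.Quotient.eq_zero_iff_mem.mpr y.2⟩) (Ideal.Quotient.mkₐ_surjective A N)
    refine subsingleton_of_forall_eq 0 fun z => hinj ?_
    rw [map_zero]
    induction z using TensorProduct.induction_on with
    | zero => simp
    | add x y hx hy => rw [map_add, hx, hy, add_zero]
    | tmul x y =>
      rw [LinearMap.lTensor_tmul]
      refine IsNilpotent.eq_zero ?_
      obtain ⟨m, hm⟩ := mem_nilradical.mp y.2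
      refine ⟨m, ?_⟩
      rw [Algebra.TensorProduct.tmul_pow, show g₁ y = (y : B) from rfl, hm, TensorProduct.tmul_zero]
  have hN : Subsingleton N := by
    rw [← Module.support_eq_empty_iff (R := B), Set.eq_empty_iff_forall_notMem]
    intro Q hQ
    rw [Module.mem_support_iff_nontrivial_residueField_tensorProduct] at hQ
    let P := Q.asIdeal.comap (algebraMap A B)
    haveI : P.IsPrime := inferInstance
    haveI := hzero P
    let φ : P.ResidueField →ₐ[A] Q.asIdeal.ResidueField :=
      Ideal.ResidueField.mapₐ P Q.asIdeal (Algebra.ofId A B) rfl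
    refine not_subsingleton_iff_nontrivial.mpr hQ (subsingleton_of_forall_eq 0 fun z => ?_)
    have key : ∀ y : N, (1 : Q.asIdeal.ResidueField) ⊗ₜ[B] y = 0 := by
      intro y
      let Ψ : P.ResidueField ⊗[A] N →ₗ[A] Q.asIdeal.ResidueField ⊗[B] N :=
        TensorProduct.lift
          (LinearMap.mk₂ A (fun c m => φ c ⊗ₜ[B] m)
            (fun a b m => by rw [map_add, TensorProduct.add_tmul])
            (fun a c m => by rw [map_smul, TensorProduct.smul_tmul'])
            (fun c m m' => by rw [TensorProduct.tmul_add])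
            (fun a c m => by rw [← TensorProduct.tmul_smul]))
      have h := congrArg Ψ (Subsingleton.elim ((1 : P.ResidueField) ⊗ₜ[A] y) 0)
      simpa [Ψ] using h
    induction z using TensorProduct.induction_on with
    | zero => rfl
    | add x y hx hy => rw [hx, hy, add_zero]
    | tmul x y =>
      have h := congrArg (fun t => x • t) (key y)
      simpa [TensorProduct.smul_tmul'] using h
  exact ⟨fun x hx => congrArg Subtype.val (Subsingleton.elim (⟨x, mem_nilradical.mpr hx⟩ : N) 0)⟩

end Groth.Agent.H27Misc
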