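import Mathlib

/-!
# Fitting decomposition of semilinear endomorphisms
-/

set_option autoImplicit false
set_option linter.style.haveILetI false
universe u v

namespace Groth.Agent.H27Misc

theorem fitting_semilinear {R : Type u} [CommRing R] {M : Type v} [AddCommGroup M] [Module R M]
    [IsNoetherian R M] [IsArtinian R M] (σ : R →+* R) (hσ : Function.Surjective σ) (φ : M →ₛₗ[σ] M) :
    ∃ Ms Mn : Submodule R M, IsCompl Ms Mn ∧
      Set.MapsTo φ Ms Ms ∧ Set.MapsTo φ Mn Mn ∧ Set.BijOn φ Ms Ms ∧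
      ∃ r : ℕ, ∀ x ∈ Mn, (⇑φ)^[r] x = 0 := by
  have hadd : ∀ (r : ℕ) (x y : M), (⇑φ)^[r] (x + y) = (⇑φ)^[r] x + (⇑φ)^[r] y := fun r =>
    iterate_map_add φ.toAddMonoidHom r
  have hzero : ∀ r : ℕ, (⇑φ)^[r] 0 = 0 := fun r => iterate_map_zero φ.toAddMonoidHom r
  have hsub : ∀ (r : ℕ) (x y : M), (⇑φ)^[r] (x - y) = (⇑φ)^[r] x - (⇑φ)^[r] y := fun r =>
    iterate_map_sub φ.toAddMonoidHom r
  have hsmul : ∀ (r : ℕ) (c : R) (x : M), (⇑φ)^[r] (c • x) = (⇑σ)^[r] c • (⇑φ)^[r] x := by
    intro r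
    induction r with
    | zero => simp
    | succ r ih =>
      intro c x
      rw [Function.iterate_succ_apply', ih, map_smulₛₗ, Function.iterate_succ_apply', Function.iterate_succ_apply']
  let K : ℕ → Submodule R M := fun r =>
    { carrier := {x | (⇑φ)^[r] x = 0}
      zero_mem' := hzero r
      add_mem' := fun {x y} hx hy => by
        show (⇑φ)^[r] (x + y) = 0
        rw [hadd, show (⇑φ)^[r] x = 0 from hx, show (⇑φ)^[r] y = 0 from hy, add_zero]
      smul_mem' := fun c x hx => by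
        show (⇑φ)^[r] (c • x) = 0
        rw [hsmul, show (⇑φ)^[r] x = 0 from hx, smul_zero] }
  let I : ℕ → Submodule R M := fun r =>
    { carrier := Set.range (⇑φ)^[r]
      zero_mem' := ⟨0, hzero r⟩
      add_mem' := by rintro _ _ ⟨x, rfl⟩ ⟨y, rfl⟩; exact ⟨x + y, hadd r x y⟩
      smul_mem' := by
        rintro c _ ⟨x, rfl⟩
        obtain ⟨d, rfl⟩ := hσ.iterate r c
        exact ⟨d • x, hsmul r d x⟩ }
  have hK : Monotone K := monotone_nat_of_le_succ fun r x (hx : (⇑φ)^[r] x = 0) => by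
    show (⇑φ)^[r + 1] x = 0
    rw [Function.iterate_succ_apply', hx, map_zero]
  have hI : Antitone I := antitone_nat_of_succ_le fun r => by
    rintro _ ⟨x, rfl⟩
    exact ⟨φ x, (Function.iterate_succ_apply _ _ _).symm⟩
  obtain ⟨a, ha⟩ := monotone_stabilizes_iff_noetherian.mpr inferInstance ⟨K, hK⟩
  obtain ⟨b, hb⟩ := IsArtinian.monotone_stabilizes ⟨fun r => OrderDual.toDual (I r), hI⟩
  let r := a + b + 1
  have hKr : ∀ n, r ≤ n → K n ≤ K r := fun n hn => ((ha n (by omega)).symm.trans (ha r (by omega))).le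
  have hIr : ∀ n, r ≤ n → I r ≤ I n := fun n hn =>
    (OrderDual.toDual.injective ((hb r (by omega)).symm.trans (hb n (by omega)))).le
  have hdis : ∀ x, x ∈ I r → x ∈ K r → x = 0 := by
    rintro _ ⟨y, rfl⟩ hx
    exact hKr (r + r) (by omega) (show (⇑φ)^[r + r] y = 0 by rw [Function.iterate_add_apply]; exact hx)
  refine ⟨I r, K r, ⟨?_, ?_⟩, ?_, ?_, ⟨?_, ?_, ?_⟩, r, fun x hx => hx⟩
  · rw [Submodule.disjoint_def]; exact hdis
  · rw [codisjoint_iff, eq_top_iff]
    intro x _
    obtain ⟨y, hy⟩ := hIr (r + r) (by omega) ⟨x, rfl⟩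
    refine Submodule.mem_sup.mpr ⟨(⇑φ)^[r] y, ⟨y, rfl⟩, x - (⇑φ)^[r] y, ?_, add_sub_cancel _ _⟩
    show (⇑φ)^[r] (x - (⇑φ)^[r] y) = 0
    rw [hsub, ← Function.iterate_add_apply, hy, sub_self]
  · rintro _ ⟨x, rfl⟩
    exact ⟨φ x, by rw [← Function.iterate_succ_apply, Function.iterate_succ_apply']⟩
  · intro x (hx : (⇑φ)^[r] x = 0)
    show (⇑φ)^[r] (φ x) = 0
    rw [← Function.iterate_succ_apply, Function.iterate_succ_apply', hx, map_zero]
  · rintro _ ⟨x, rfl⟩
    exact ⟨φ x, by rw [← Function.iterate_succ_apply, Function.iterate_succ_apply']⟩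
  · intro x hx y hy h
    rw [← sub_eq_zero]
    refine hdis _ (sub_mem hx hy) (hK (show 1 ≤ r by omega) ?_)
    show (⇑φ)^[1] (x - y) = 0
    rw [hsub, Function.iterate_one, h, sub_self]
  · intro x hx
    obtain ⟨y, hy⟩ := hIr (r + 1) (by omega) hx
    exact ⟨(⇑φ)^[r] y, ⟨y, rfl⟩, by rw [← Function.iterate_succ_apply' φ r y]; exact hy⟩

theorem isArtinian_of_torsion {R : Type u} [CommRing R] [IsDomain R] [IsNoetherianRing R]
    [Ring.KrullDimLE 1 R] {M : Type v} [AddCommGroup M] [Module R M] [Module.Finite R M]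
    (hM : Module.IsTorsion R M) : IsArtinian R M := by
  classical
  obtain ⟨s, hs⟩ := Module.Finite.fg_top (R := R) (M := M)
  choose c hc using fun m : M => @hM m
  let a : R := ∏ m ∈ s, (c m : R)
  have ha : a ∈ nonZeroDivisors R := prod_mem fun m _ => (c m).2
  haveI : IsArtinian R (R ⧸ Ideal.span {a}) :=
    (isFiniteLength_iff_isNoetherian_isArtinian.mp (isFiniteLength_quotient_span_singleton R ha)).2
  let g : (s → R) →ₗ[R] M := Fintype.linearCombination R (fun m : s => (m : M))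
  let P : Submodule R (s → R) := LinearMap.range (LinearMap.pi fun i : s => a • (LinearMap.proj i : (s → R) →ₗ[R] R))
  have hP : P ≤ LinearMap.ker g := by
    rintro _ ⟨x, rfl⟩
    rw [LinearMap.mem_ker]
    simp only [g, Fintype.linearCombination_apply, LinearMap.pi_apply, LinearMap.smul_apply, LinearMap.proj_apply,
      smul_eq_mul]
    refine Finset.sum_eq_zero fun m _ => ?_
    rw [mul_comm, mul_smul, show a • (m : M) = 0 from ?_, smul_zero]
    rw [show a = (∏ j ∈ s.erase m.1, (c j : R)) * c m.1 from (Finset.prod_erase_mul s _ m.2).symm, mul_smul]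
    exact (congrArg _ (hc m.1)).trans (smul_zero _)
  let q : (s → R) →ₗ[R] (s → R ⧸ Ideal.span {a}) :=
    LinearMap.pi fun i => (Ideal.Quotient.mkₐ R (Ideal.span {a})).toLinearMap.comp (LinearMap.proj i)
  have hq : LinearMap.ker q ≤ LinearMap.ker g := by
    intro x hx
    refine hP ?_
    have : ∀ i, a ∣ x i := fun i => Ideal.mem_span_singleton.mp
      (Ideal.Quotient.eq_zero_iff_mem.mp (congrFun (LinearMap.mem_ker.mp hx) i))
    choose y hy using this
    exact ⟨y, funext fun i => by simp [hy i]⟩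
  have hqs : Function.Surjective q := fun y => ⟨fun i => (Ideal.Quotient.mk_surjective (y i)).choose,
    funext fun i => (Ideal.Quotient.mk_surjective (y i)).choose_spec⟩
  haveI : IsArtinian R ((s → R) ⧸ LinearMap.ker q) :=
    isArtinian_of_linearEquiv (LinearMap.quotKerEquivOfSurjective q hqs).symm
  have hgs : Function.Surjective g := by
    rw [← LinearMap.range_eq_top, Fintype.range_linearCombination]
    exact (congrArg (Submodule.span R) Subtype.range_coe).trans hs
  refine isArtinian_of_surjective _ ((LinearMap.ker q).liftQ g hq) fun m => ?_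
  obtain ⟨x, rfl⟩ := hgs m
  exact ⟨Submodule.Quotient.mk x, rfl⟩

end Groth.Agent.H27Misc
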