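import Mathlib

/-!
# Counting monomials with bounded exponents
-/

set_option autoImplicit false

open PowerSeries

namespace Groth.Agent.H27Misc

theorem card_fun_sum_eq_coeff (n m s : ℕ) :
    ((Finset.univ.filter fun f : Fin n → Fin m => ∑ i, ((f i : ℕ) + 1) = s).card : ℤ) =
      coeff s ((∑ j : Fin m, (X : PowerSeries ℤ) ^ ((j : ℕ) + 1)) ^ n) := by
  rw [Fintype.sum_pow, map_sum]
  simp only [Finset.prod_pow_eq_pow_sum, coeff_X_pow]
  rw [Finset.sum_boole]
  simp only [eq_comm (a := s)]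

theorem coeff_geom_pow (n m s : ℕ) (hn : 1 ≤ n) :
    coeff s ((∑ j : Fin m, (X : PowerSeries ℤ) ^ ((j : ℕ) + 1)) ^ n) =
      ∑ i ∈ Finset.range (n + 1), (-1 : ℤ) ^ i * (n.choose i : ℤ) *
        (if i * m + n ≤ s then (((s - i * m - 1).choose (n - 1) : ℕ) : ℤ) else 0) := by
  obtain ⟨d, rfl⟩ : ∃ d, n = d + 1 := ⟨n - 1, by omega⟩
  have h1 : (∑ j : Fin m, (X : PowerSeries ℤ) ^ ((j : ℕ) + 1)) * (1 - X) = X * (1 - X ^ m) := by
    rw [Fin.sum_univ_eq_sum_range (fun j => (X : PowerSeries ℤ) ^ (j + 1)) m]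
    simp only [pow_succ']
    rw [← Finset.mul_sum, mul_assoc, geom_sum_mul_neg]
  have h2 : (∑ j : Fin m, (X : PowerSeries ℤ) ^ ((j : ℕ) + 1)) ^ (d + 1) =
      X ^ (d + 1) * (1 - X ^ m) ^ (d + 1) * (invOneSubPow ℤ (d + 1)).val := by
    rw [← mul_pow, ← h1, mul_pow, mul_assoc, ← invOneSubPow_inv_eq_one_sub_pow, Units.inv_val, mul_one]
  rw [h2, sub_eq_add_neg, add_comm (1 : PowerSeries ℤ), add_pow, Finset.mul_sum, Finset.sum_mul, map_sum]
  refine Finset.sum_congr rfl fun i _ => ?_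
  have h3 : X ^ (d + 1) * ((-(X : PowerSeries ℤ) ^ m) ^ i * 1 ^ (d + 1 - i) * ((d + 1).choose i : PowerSeries ℤ)) =
      C ((-1 : ℤ) ^ i * ((d + 1).choose i : ℤ)) * X ^ (d + 1 + m * i) := by
    rw [neg_pow, map_mul, map_pow, map_neg, map_one, map_natCast, one_pow, mul_one, pow_add _ (d + 1) (m * i), pow_mul]
    ring
  rw [h3, mul_assoc, coeff_C_mul, coeff_X_pow_mul', invOneSubPow_val_succ_eq_mk_add_choose, coeff_mk,
    mul_comm i m]
  refine congrArg _ (if_ctx_congr (by omega) (fun h => ?_) (fun _ => rfl))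
  rw [show d + (s - (d + 1 + m * i)) = s - m * i - 1 by omega, Nat.add_sub_cancel]

theorem card_bounded_monomials (p n s : ℕ) (hn : 1 ≤ n) :
    (Fintype.card {e : Fin n → Fin p // (∀ i, 1 ≤ (e i : ℕ)) ∧ ∑ i, (e i : ℕ) = s} : ℤ) =
      ∑ i ∈ Finset.range (n + 1),
        (-1 : ℤ) ^ i * (n.choose i : ℤ) *
          (if i * (p - 1) + n ≤ s then (((s - i * (p - 1) - 1).choose (n - 1) : ℕ) : ℤ) else 0) := by
  rw [← coeff_geom_pow n (p - 1) s hn, ← card_fun_sum_eq_coeff, ← Fintype.card_subtype]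
  norm_cast
  refine Fintype.card_congr
    { toFun := fun e => ⟨fun i => ⟨(e.1 i : ℕ) - 1, by have := e.2.1 i; have := (e.1 i).2; omega⟩, by
        refine Eq.trans (Finset.sum_congr rfl fun i _ => ?_) e.2.2
        have := e.2.1 i
        simp; omega⟩
      invFun := fun f => ⟨fun i => ⟨(f.1 i : ℕ) + 1, by have := (f.1 i).2; omega⟩, fun i => by simp, by
        simpa using f.2⟩
      left_inv := fun e => Subtype.ext (funext fun i => Fin.ext (by have := e.2.1 i; simp; omega))
      right_inv := fun f => Subtype.ext (funext fun i => Fin.ext (by simp)) }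

end Groth.Agent.H27Misc

namespace Groth.Agent.H27Misc

theorem sum_split {S : Type*} [CommRing S] (m : ℕ) (T y : S) :
    (∑ a : Fin (m + m), (if (a : ℕ) < m then y else 1) * T ^ ((a : ℕ) + 1)) =
      (y + T ^ m) * ∑ j : Fin m, T ^ ((j : ℕ) + 1) := by
  rw [Fin.sum_univ_add, add_mul, Finset.mul_sum, Finset.mul_sum]
  congr 1
  · exact Finset.sum_congr rfl fun j _ => by simp
  · refine Finset.sum_congr rfl fun j _ => ?_
    simp only [Fin.val_natAdd, show ¬ m + (j : ℕ) < m by omega, if_false, one_mul, ← pow_add, Nat.add_assoc]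

open Polynomial in
theorem card_bounded_with_small (m n s D : ℕ) :
    (Fintype.card {f : Fin n → Fin (m + m) // ∑ i, ((f i : ℕ) + 1) = s ∧
        (Finset.univ.filter fun i => (f i : ℕ) < m).card = D} : ℤ) =
      (n.choose D : ℤ) * PowerSeries.coeff s ((PowerSeries.X : PowerSeries ℤ) ^ (m * (n - D)) *
        (∑ j : Fin m, (PowerSeries.X : PowerSeries ℤ) ^ ((j : ℕ) + 1)) ^ n) := by
  classical
  let T : PowerSeries (Polynomial ℤ) := PowerSeries.X
  let w : Fin (m + m) → Polynomial ℤ := fun a => if (a : ℕ) < m then Polynomial.X else 1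
  let g : PowerSeries (Polynomial ℤ) := ∑ j : Fin m, T ^ ((j : ℕ) + 1)
  have hG : (∑ a : Fin (m + m), PowerSeries.C (w a) * T ^ ((a : ℕ) + 1)) =
      (PowerSeries.C Polynomial.X + T ^ m) * g := by
    refine Eq.trans (Finset.sum_congr rfl fun a _ => ?_) (sum_split m T (PowerSeries.C Polynomial.X))
    by_cases h : (a : ℕ) < m <;> simp [w, h]
  have h1 : (Fintype.card {f : Fin n → Fin (m + m) // ∑ i, ((f i : ℕ) + 1) = s ∧
      (Finset.univ.filter fun i => (f i : ℕ) < m).card = D} : ℤ) =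
      (PowerSeries.coeff s ((∑ a : Fin (m + m), PowerSeries.C (w a) * T ^ ((a : ℕ) + 1)) ^ n)).coeff D := by
    rw [Fintype.card_subtype]
    rw [← Finset.sum_boole]
    rw [Fintype.sum_pow]
    rw [map_sum, Polynomial.finsetSum_coeff]
    refine Finset.sum_congr rfl fun f _ => ?_
    have hw : ∏ i, w (f i) = Polynomial.X ^ (Finset.univ.filter fun i => (f i : ℕ) < m).card := by
      simp only [w]
      rw [Finset.prod_ite, Finset.prod_const, Finset.prod_const_one, mul_one]
    rw [Finset.prod_mul_distrib, Finset.prod_pow_eq_pow_sum, ← map_prod, hw, PowerSeries.coeff_C_mul,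
      PowerSeries.coeff_X_pow, mul_ite, mul_one, mul_zero, apply_ite (fun q : Polynomial ℤ => q.coeff D),
      Polynomial.coeff_X_pow, Polynomial.coeff_zero]
    by_cases h1 : ∑ i, ((f i : ℕ) + 1) = s
    · by_cases h2 : (Finset.univ.filter fun i => (f i : ℕ) < m).card = D
      · rw [if_pos ⟨h1, h2⟩, if_pos h1.symm, if_pos h2.symm]
      · rw [if_neg (fun h => h2 h.2), if_pos h1.symm, if_neg (Ne.symm h2)]
    · rw [if_neg (fun h => h1 h.1), if_neg (Ne.symm h1)]
  have hmap : g = PowerSeries.map Polynomial.C (∑ j : Fin m, (PowerSeries.X : PowerSeries ℤ) ^ ((j : ℕ) + 1)) := by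
    simp [g, T]
  rw [h1, hG, mul_pow, add_pow, Finset.sum_mul, map_sum, Polynomial.finsetSum_coeff]
  have hterm : ∀ i, (PowerSeries.coeff s (PowerSeries.C Polynomial.X ^ i * (T ^ m) ^ (n - i) *
      (n.choose i : PowerSeries (Polynomial ℤ)) * g ^ n)).coeff D =
      if i = D then (n.choose D : ℤ) * PowerSeries.coeff s ((PowerSeries.X : PowerSeries ℤ) ^ (m * (n - D)) *
        (∑ j : Fin m, (PowerSeries.X : PowerSeries ℤ) ^ ((j : ℕ) + 1)) ^ n) else 0 := by
    intro i
    have : PowerSeries.C Polynomial.X ^ i * (T ^ m) ^ (n - i) *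
        (n.choose i : PowerSeries (Polynomial ℤ)) * g ^ n =
        PowerSeries.C (Polynomial.X ^ i * Polynomial.C (n.choose i : ℤ)) *
          PowerSeries.map Polynomial.C ((PowerSeries.X : PowerSeries ℤ) ^ (m * (n - i)) *
            (∑ j : Fin m, (PowerSeries.X : PowerSeries ℤ) ^ ((j : ℕ) + 1)) ^ n) := by
      simp only [map_mul, map_pow, ← hmap, PowerSeries.map_X, pow_mul, map_natCast, T]
      ring
    rw [this, PowerSeries.coeff_C_mul, PowerSeries.coeff_map, mul_assoc, ← Polynomial.C_mul,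
      Polynomial.coeff_X_pow_mul']
    rcases eq_or_ne i D with rfl | hne
    · rw [if_pos rfl, if_pos le_rfl, Nat.sub_self, Polynomial.coeff_C_zero]
    · rw [if_neg hne]
      split_ifs with h
      · exact Polynomial.coeff_C_of_ne_zero (by omega)
      · rfl
  rw [Finset.sum_congr rfl fun i _ => hterm i, Finset.sum_ite_eq']
  by_cases h : D ≤ n
  · rw [if_pos (Finset.mem_range.mpr (by omega))]
  · rw [if_neg (by rw [Finset.mem_range]; omega), Nat.choose_eq_zero_of_lt (by omega), Nat.cast_zero, zero_mul]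

theorem card_small_eq (q n s : ℕ) :
    (Fintype.card {e : Fin n → Fin (q + 1) // (∀ i, 1 ≤ (e i : ℕ)) ∧ ∑ i, (e i : ℕ) = s} : ℤ) =
      PowerSeries.coeff s ((∑ j : Fin q, (PowerSeries.X : PowerSeries ℤ) ^ ((j : ℕ) + 1)) ^ n) := by
  rw [← card_fun_sum_eq_coeff, ← Fintype.card_subtype]
  norm_cast
  refine Fintype.card_congr
    { toFun := fun e => ⟨fun i => ⟨(e.1 i : ℕ) - 1, by have := e.2.1 i; have := (e.1 i).2; omega⟩, by
        refine Eq.trans (Finset.sum_congr rfl fun i _ => ?_) e.2.2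
        have := e.2.1 i
        simp; omega⟩
      invFun := fun f => ⟨fun i => ⟨(f.1 i : ℕ) + 1, by have := (f.1 i).2; omega⟩, fun i => by simp, by
        simpa using f.2⟩
      left_inv := fun e => Subtype.ext (funext fun i => Fin.ext (by have := e.2.1 i; simp; omega))
      right_inv := fun f => Subtype.ext (funext fun i => Fin.ext (by simp)) }

theorem card_bounded_small (p n s D : ℕ) (hp : Odd p) :
    Fintype.card {e : Fin n → Fin p // (∀ i, 1 ≤ (e i : ℕ)) ∧ ∑ i, (e i : ℕ) = s ∧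
        (Finset.univ.filter fun i => 2 * (e i : ℕ) < p).card = D} =
      n.choose D * ∑ j ∈ Finset.range (s + 1),
        Fintype.card {e : Fin D → Fin ((p + 1) / 2) // (∀ i, 1 ≤ (e i : ℕ)) ∧ ∑ i, (e i : ℕ) = j} *
          Fintype.card {e : Fin (n - D) → Fin ((p + 1) / 2) // (∀ i, 1 ≤ (e i : ℕ)) ∧ ∑ i, (e i : ℕ) = (s - j - (n - D) * ((p - 1) / 2))} := by
  classical
  obtain ⟨m, rfl⟩ := hp
  rw [show (2 * m + 1 + 1) / 2 = m + 1 by omega, show (2 * m + 1 - 1) / 2 = m by omega]
  set g : PowerSeries ℤ := ∑ j : Fin m, (PowerSeries.X : PowerSeries ℤ) ^ ((j : ℕ) + 1)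
  have hL : Fintype.card {e : Fin n → Fin (2 * m + 1) // (∀ i, 1 ≤ (e i : ℕ)) ∧ ∑ i, (e i : ℕ) = s ∧
        (Finset.univ.filter fun i => 2 * (e i : ℕ) < 2 * m + 1).card = D} =
      Fintype.card {f : Fin n → Fin (m + m) // ∑ i, ((f i : ℕ) + 1) = s ∧
        (Finset.univ.filter fun i => (f i : ℕ) < m).card = D} :=
    Fintype.card_congr
    { toFun := fun e => ⟨fun i => ⟨(e.1 i : ℕ) - 1, by have := e.2.1 i; have := (e.1 i).2; omega⟩, by
        refine ⟨Eq.trans (Finset.sum_congr rfl fun i _ => ?_) e.2.2.1, Eq.trans (congrArg Finset.card ?_) e.2.2.2⟩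
        · have := e.2.1 i
          simp; omega
        · ext i
          have := e.2.1 i
          simp; omega⟩
      invFun := fun f => ⟨fun i => ⟨(f.1 i : ℕ) + 1, by have := (f.1 i).2; omega⟩, fun i => by simp, by
        simpa using f.2.1, Eq.trans (congrArg Finset.card (by ext i; simp)) f.2.2⟩
      left_inv := fun e => Subtype.ext (funext fun i => Fin.ext (by have := e.2.1 i; simp; omega))
      right_inv := fun f => Subtype.ext (funext fun i => Fin.ext (by simp)) }
  apply Nat.cast_injective (R := ℤ)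
  rw [hL, card_bounded_with_small, Nat.cast_mul, Nat.cast_sum]
  by_cases hD : D ≤ n
  swap
  · rw [Nat.choose_eq_zero_of_lt (by omega), Nat.cast_zero, zero_mul, zero_mul]
  congr 1
  rw [show g ^ n = g ^ D * g ^ (n - D) by rw [← pow_add, Nat.add_sub_cancel' hD], mul_left_comm,
    PowerSeries.coeff_mul, Finset.Nat.sum_antidiagonal_eq_sum_range_succ_mk]
  refine Finset.sum_congr rfl fun j hj => ?_
  rw [Nat.cast_mul, card_small_eq, card_small_eq, PowerSeries.coeff_X_pow_mul', mul_comm m]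
  congr 1
  split_ifs with h
  · rfl
  · rw [show s - j - (n - D) * m = 0 by omega]
    have hnD : n - D ≠ 0 := fun h0 => h (by simp [h0])
    have h0 : PowerSeries.constantCoeff g = 0 := by simp [g]
    rw [PowerSeries.coeff_zero_eq_constantCoeff_apply, map_pow, h0, zero_pow hnD]

end Groth.Agent.H27Misc
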