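import Mathlib

/-!
# The scheme-theoretic image of a flat scheme over a Dedekind line is flat
-/

set_option autoImplicit false
set_option linter.style.haveILetI false
universe u

open CategoryTheory AlgebraicGeometry TopologicalSpace

namespace Groth.Agent.H27Misc

theorem flat_of_ker_eq_bot {R : Type u} [CommRing R] [IsDomain R] [IsBezout R] {X Y : Scheme.{u}}
    (f : X ⟶ Y) (g : Y ⟶ Spec (CommRingCat.of R)) [QuasiCompact f] (hker : f.ker = ⊥) [Flat (f ≫ g)] :
    Flat g := by
  let S := Spec (CommRingCat.of R)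
  let T : S.affineOpens := ⟨⊤, isAffineOpen_top S⟩
  let e := (Scheme.ΓSpecIso (CommRingCat.of R)).commRingCatIsoToRingEquiv
  have hfl := HasRingHomProperty.iff_appLE (P := @Flat) (f := f ≫ g) |>.mp inferInstance
  have hloc : ∀ (U : Y.affineOpens), (g.appLE ⊤ U (by simp)).hom.Flat := by
    intro U
    let φ : R →+* Γ(Y, U) := (g.appLE ⊤ U (by simp)).hom.comp e.symm.toRingHom
    have hφ : φ.Flat := by
      rw [RingHom.Flat]
      letI := φ.toAlgebra
      rw [Module.Flat.flat_iff_torsion_eq_bot_of_isBezout, eq_bot_iff]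
      rintro b ⟨⟨c, hc⟩, hcb⟩
      have hcb' : φ c * b = 0 := hcb
      rw [Submodule.mem_bot]
      have hinj : Function.Injective (f.app U.1).hom := by
        rw [RingHom.injective_iff_ker_eq_bot, ← Scheme.Hom.ker_apply, hker, Scheme.IdealSheafData.ideal_bot]
        rfl
      refine hinj (X.IsSheaf.section_ext fun x hx => ?_)
      obtain ⟨W, (hW : IsAffineOpen W), hxW, hWU⟩ :=
        Opens.isBasis_iff_nbhd.mp X.isBasis_affineOpens (show x ∈ f ⁻¹ᵁ U.1 from hx)
      refine ⟨W, hWU, hxW, ?_⟩
      let ψ : R →+* Γ(X, W) := ((f ≫ g).appLE ⊤ W (by simp)).hom.comp e.symm.toRingHom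
      have hψ : ψ.Flat := RingHom.Flat.respectsIso.2 _ e.symm (hfl T ⟨W, hW⟩ _)
      have hψφ : ∀ r, ψ r = (f.appLE U.1 W hWU).hom (φ r) := fun r => by
        exact (RingHom.congr_fun (congrArg CommRingCat.Hom.hom
          (Scheme.Hom.appLE_comp_appLE f g ⊤ U.1 W (by simp) hWU)) (e.symm r)).symm
      letI := ψ.toAlgebra
      haveI : Module.Flat R Γ(X, W) := hψ
      have h0 : (f.appLE U.1 W hWU).hom b = 0 := by
        have hsr := Module.Flat.isSMulRegular_of_nonZeroDivisors (M := Γ(X, W)) hc
        refine hsr ?_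
        show ψ c * _ = ψ c * 0
        rw [hψφ, ← map_mul, hcb', map_zero, mul_zero]
      rw [map_zero, map_zero]
      exact h0
    have hcomp : (g.appLE ⊤ U (by simp)).hom = φ.comp e.toRingHom :=
      RingHom.ext fun z => by simp [φ]
    rw [hcomp]
    exact RingHom.Flat.respectsIso.2 _ e hφ
  exact HasRingHomProperty.of_iSup_eq_top (P := @Flat) (fun U : Y.affineOpens => U) (iSup_affineOpens_eq_top Y)
    fun U => hloc U

end Groth.Agent.H27Misc
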