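import Groth.Prelude.Def_W4c6eohyperellchar2Gc
import Mathlib

namespace Groth.Agent.H27Misc.GcModule

open W4c6eohyperellchar2

universe u
variable {c : ℕ} {k : Type u} [Field k] [CharP k 2] [PerfectRing k 2]

omit [CharP k 2] [PerfectRing k 2] in
theorem coefX_X (n m : ℕ) : coefX (X c k n) m = if 1 ≤ m ∧ m ≤ c ∧ m = n then 1 else 0 := by
  unfold coefX X
  by_cases h : 1 ≤ m ∧ m ≤ c
  · rw [dif_pos h]; dsimp only; split_ifs <;> first | rfl | omega
  · rw [dif_neg h, if_neg]; omega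

omit [CharP k 2] [PerfectRing k 2] in
theorem coefY_Y (n m : ℕ) : coefY (Y c k n) m = if 1 ≤ m ∧ m ≤ c ∧ m = n then 1 else 0 := by
  unfold coefY Y
  by_cases h : 1 ≤ m ∧ m ≤ c
  · rw [dif_pos h]; dsimp only; split_ifs <;> first | rfl | omega
  · rw [dif_neg h, if_neg]; omega

omit [CharP k 2] [PerfectRing k 2] in
theorem coefX_Y (n m : ℕ) : coefX (Y c k n) m = 0 := by
  unfold coefX Y; split_ifs <;> rfl

omit [CharP k 2] [PerfectRing k 2] in
theorem coefY_X (n m : ℕ) : coefY (X c k n) m = 0 := by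
  unfold coefY X; split_ifs <;> rfl

omit [CharP k 2] [PerfectRing k 2] in
theorem F_X (n : ℕ) (h1 : 1 ≤ n) (h2 : n ≤ c) :
    F c k (X c k n) = if n % 2 = 0 then X c k (n / 2) else Y c k (c - (n - 1) / 2) := by
  have h0 : ∀ m, coefX (X c k n) m ^ 2 = coefX (X c k n) m := by
    intro m; rw [coefX_X]; split_ifs <;> simp
  split_ifs with hn <;> refine Prod.ext (funext fun i => ?_) (funext fun i => ?_) <;>
    simp only [F] <;> simp only [h0] <;> simp only [coefX_X] <;> simp only [X, Y, Pi.zero_apply] <;>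
    split_ifs <;> first | rfl | omega

theorem V_X (n : ℕ) (h1 : 1 ≤ n) (h2 : n ≤ c) :
    V c k (X c k n) = if c < 2 * n then Y c k (2 * c - 2 * n + 1) else 0 := by
  have h0 : ∀ m, (frobeniusEquiv k 2).symm (coefX (X c k n) m) = coefX (X c k n) m := by
    intro m; rw [coefX_X]; split_ifs <;> simp
  split_ifs with hn <;> refine Prod.ext (funext fun i => ?_) (funext fun i => ?_) <;>
    simp only [V, h0, coefY_X, map_zero] <;> simp only [coefX_X, Y, Prod.fst_zero, Prod.snd_zero, Pi.zero_apply] <;>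
    split_ifs <;> first | rfl | (have := i.isLt; omega)

theorem V_Y (n : ℕ) (h1 : 1 ≤ n) : V c k (Y c k n) = Y c k (2 * n) := by
  have h0 : ∀ m, (frobeniusEquiv k 2).symm (coefY (Y c k n) m) = coefY (Y c k n) m := by
    intro m; rw [coefY_Y]; split_ifs <;> simp
  refine Prod.ext (funext fun i => ?_) (funext fun i => ?_) <;>
    simp only [V, h0, coefX_Y, map_zero] <;> (try simp only [coefY_Y]) <;> simp only [Y, Pi.zero_apply] <;>
    split_ifs <;> first | rfl | (have := i.isLt; omega)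

omit [CharP k 2] [PerfectRing k 2] in
theorem Y_of_gt (n : ℕ) (h : c < n) : Y c k n = 0 := by
  refine Prod.ext rfl (funext fun i => ?_)
  have := i.isLt
  simp only [Y, Prod.snd_zero, Pi.zero_apply]
  exact if_neg (by omega)

theorem F_iterate_X (l : ℕ) (hl : 1 ≤ l) : ∀ e, 2 ^ e * l ≤ c →
    (F c k)^[e] (X c k (2 ^ e * l)) = X c k l
  | 0, _ => by simp
  | e + 1, h => by
    rw [Function.iterate_succ_apply, F_X _ (by have : 0 < 2 ^ (e+1) * l := (by positivity); omega) h,
      show 2 ^ (e + 1) * l = 2 * (2 ^ e * l) by ring, if_pos (by omega), show 2 * (2 ^ e * l) / 2 = 2 ^ e * l by omega]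
    exact F_iterate_X l hl e (by rw [pow_succ] at h; nlinarith)

theorem V_iterate_Y (m : ℕ) (hm : 1 ≤ m) : ∀ n, (V c k)^[n] (Y c k m) = Y c k (2 ^ n * m)
  | 0 => by simp
  | n + 1 => by
    rw [Function.iterate_succ_apply', V_iterate_Y m hm n, V_Y _ (by
      have : 0 < 2 ^ n * m := by positivity
      omega)]
    congr 1; ring

theorem X_mem {N : Submodule k (GcMod c k)} (hF : ∀ j, 2 * j ≤ c → F c k (X c k (2 * j)) ∈ N) (j : ℕ)
    (h1 : 1 ≤ j) (h2 : 2 * j ≤ c) : X c k j ∈ N := by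
  have := hF j h2
  rwa [F_X _ (by omega) h2, if_pos (by omega), show 2 * j / 2 = j by omega] at this

theorem Y_mem {N : Submodule k (GcMod c k)}
    (hX : ∀ j, c < 2 * j → j ≤ c → V c k (X c k j) ∈ N)
    (hY : ∀ j, 1 ≤ j → Y c k j ∈ N → V c k (Y c k j) ∈ N) : ∀ m, 1 ≤ m → Y c k m ∈ N := by
  intro m
  induction m using Nat.strong_induction_on with
  | _ m ih =>
    intro hm
    rcases Nat.even_or_odd' m with ⟨a, rfl | rfl⟩
    · have := hY a (by omega) (ih a (by omega) (by omega))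
      rwa [V_Y _ (by omega)] at this
    · by_cases h : 2 * a + 1 ≤ c
      · have := hX (c - a) (by omega) (by omega)
        rwa [V_X _ (by omega) (by omega), if_pos (by omega),
          show 2 * c - 2 * (c - a) + 1 = 2 * a + 1 by omega] at this
      · rw [Y_of_gt _ (by omega)]; exact zero_mem N

omit [CharP k 2] [PerfectRing k 2] in
theorem eq_sum (v : GcMod c k) :
    v = ∑ i : Fin c, v.1 i • X c k (i.val + 1) + ∑ i : Fin c, v.2 i • Y c k (i.val + 1) := by
  refine Prod.ext (funext fun l => ?_) (funext fun l => ?_) <;>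
    simp [X, Y, Prod.fst_sum, Prod.snd_sum, Fin.val_inj, Finset.sum_ite_eq]

omit [CharP k 2] [PerfectRing k 2] in
theorem eq_top_of_mem {N : Submodule k (GcMod c k)} (hX : ∀ j, 1 ≤ j → j ≤ c → X c k j ∈ N)
    (hY : ∀ j, 1 ≤ j → Y c k j ∈ N) : N = ⊤ := by
  refine eq_top_iff.mpr fun v _ => ?_
  rw [eq_sum v]
  exact add_mem (sum_mem fun i _ => N.smul_mem _ (hX _ (by omega) i.isLt))
    (sum_mem fun i _ => N.smul_mem _ (hY _ (by omega)))

end Groth.Agent.H27Misc.GcModule
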