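import Mathlib

/-!
# The top coefficient of a Jacobian determinant vanishes in characteristic p
-/

set_option autoImplicit false
universe u w

open MvPolynomial

namespace Groth.Agent.H27Misc

theorem det_natCast_eq_zero_of_colSum {p : ℕ} {R : Type u} [CommRing R] [CharP R p] {m : ℕ} (hm : 0 < m)
    (A : Matrix (Fin m) (Fin m) ℕ) (hA : ∀ j, ∑ i, A i j = p) :
    (Matrix.of fun i j => ((A i j : ℕ) : R)).det = 0 := by
  let M : Matrix (Fin m) (Fin m) R := Matrix.of fun i j => ((A i j : ℕ) : R)
  have h := M.det_updateRow_sum ⟨0, hm⟩ (fun _ => 1)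
  rw [one_smul] at h
  have hz : (∑ k, (1 : R) • M k) = 0 := by
    funext j
    rw [Finset.sum_apply]
    simp only [one_smul, M, Matrix.of_apply]
    rw [← Nat.cast_sum, hA, CharP.cast_eq_zero]
    rfl
  rw [hz] at h
  rw [show (Matrix.of fun i j => ((A i j : ℕ) : R)) = M from rfl, ← h]
  exact Matrix.det_eq_zero_of_row_eq_zero (i := ⟨0, hm⟩) fun j => by simp [Matrix.updateRow_self]

theorem prod_monomial {R : Type*} [CommRing R] {τ ι : Type*} (s : Finset ι) (e : ι → τ →₀ ℕ) (c : ι → R) :
    ∏ i ∈ s, monomial (e i) (c i) = monomial (∑ i ∈ s, e i) (∏ i ∈ s, c i) := by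
  classical
  induction s using Finset.induction with
  | empty => simp
  | insert i t hi ih => rw [Finset.prod_insert hi, Finset.sum_insert hi, Finset.prod_insert hi, ih, monomial_mul]

theorem coeff_det_pderiv_monomial {p : ℕ} (hp : 1 ≤ p) {R : Type u} [CommRing R] [CharP R p] {m : ℕ}
    (hm : 0 < m) {σ : Type w} (a : Fin m → (Fin m ⊕ σ) →₀ ℕ) (c : Fin m → R) :
    coeff (Finsupp.sumElim (Finsupp.equivFunOnFinite.symm fun _ : Fin m => p - 1) (0 : σ →₀ ℕ))
      (Matrix.of fun i j : Fin m => pderiv (Sum.inl j) (monomial (a i) (c i))).det = 0 := by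
  classical
  set T : (Fin m ⊕ σ) →₀ ℕ :=
    Finsupp.sumElim (Finsupp.equivFunOnFinite.symm fun _ : Fin m => p - 1) (0 : σ →₀ ℕ)
  let E : (Fin m ⊕ σ) →₀ ℕ := ∑ j : Fin m, Finsupp.single (Sum.inl j) 1
  let P : Equiv.Perm (Fin m) → R := fun π => ∏ i, c (π i) * ((a (π i) (Sum.inl i) : ℕ) : R)
  have hterm : ∀ π : Equiv.Perm (Fin m),
      coeff T (∏ i, pderiv (Sum.inl i) (monomial (a (π i)) (c (π i)))) =
        if ∑ i, a i = T + E then P π else 0 := by
    intro π
    simp only [pderiv_monomial]
    rw [prod_monomial, coeff_monomial]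
    by_cases hP : P π = 0
    · simp only [P] at hP
      simp [P, hP]
    · have hle : ∀ i, Finsupp.single (Sum.inl i) 1 ≤ a (π i) := by
        intro i
        rw [Finsupp.single_le_iff]
        by_contra h0
        exact hP (Finset.prod_eq_zero (Finset.mem_univ i) (by simp [show a (π i) (Sum.inl i) = 0 by omega]))
      have hsum : (∑ i, (a (π i) - Finsupp.single (Sum.inl i) 1)) + E = ∑ i, a i := by
        rw [← Finset.sum_add_distrib, Finset.sum_congr rfl fun i _ => tsub_add_cancel_of_le (hle i)]
        exact Equiv.sum_comp π a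
      refine if_congr ⟨fun h => ?_, fun h => ?_⟩ rfl rfl
      · rw [← hsum, h]
      · exact add_right_cancel (hsum.trans h)
  rw [Matrix.det_apply, coeff_sum]
  simp only [Matrix.of_apply, Units.smul_def]
  rw [Finset.sum_congr rfl fun π _ => by rw [coeff_smul, hterm π]]
  by_cases h : ∑ i, a i = T + E
  · simp only [if_pos h]
    have hdet : (Matrix.of fun i j => c i * ((a i (Sum.inl j) : ℕ) : R)).det = 0 := by
      have hA := det_natCast_eq_zero_of_colSum (R := R) (p := p) hm (Matrix.of fun i j => a i (Sum.inl j)) fun j => by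
        have h' := DFunLike.congr_fun h (Sum.inl j)
        simp only [Finsupp.finsetSum_apply, Finsupp.add_apply, T, E, Finsupp.sumElim_inl,
          Finsupp.equivFunOnFinite_symm_apply_apply] at h'
        simp only [Matrix.of_apply]
        rw [h', Finset.sum_eq_single j (fun b _ hb => by simp [hb]) (by simp)]
        simp
        omega
      calc (Matrix.of fun i j => c i * ((a i (Sum.inl j) : ℕ) : R)).det
          = (∏ i, c i) * (Matrix.of fun i j => ((a i (Sum.inl j) : ℕ) : R)).det :=
            Matrix.det_mul_column c (Matrix.of fun i j => ((a i (Sum.inl j) : ℕ) : R))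
        _ = 0 := by
            have : (Matrix.of fun i j => ((a i (Sum.inl j) : ℕ) : R)).det = 0 := hA
            rw [this, mul_zero]
    rw [← hdet, Matrix.det_apply]
    rfl
  · simp [if_neg h]

theorem coeff_det_jacobian {p : ℕ} (hp : 1 ≤ p) {R : Type u} [CommRing R] [CharP R p] {m : ℕ}
    (hm : 0 < m) {σ : Type w} (f : Fin m → MvPolynomial (Fin m ⊕ σ) R) :
    coeff (Finsupp.sumElim (Finsupp.equivFunOnFinite.symm fun _ : Fin m => p - 1) (0 : σ →₀ ℕ))
      (Matrix.of fun i j : Fin m => pderiv (Sum.inl j) (f i)).det = 0 := by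
  classical
  have h : (Matrix.of fun i j : Fin m => pderiv (Sum.inl j) (f i)).det =
      Matrix.detRowAlternating fun i => ∑ e ∈ (f i).support,
        fun j => pderiv (Sum.inl j) (monomial e (coeff e (f i))) := by
    refine congrArg Matrix.det (Matrix.ext fun i j => ?_)
    rw [Finset.sum_apply, Matrix.of_apply, ← map_sum, ← MvPolynomial.as_sum]
  rw [h, show ∀ v : Fin m → Fin m → MvPolynomial (Fin m ⊕ σ) R,
    Matrix.detRowAlternating v = Matrix.detRowAlternating.toMultilinearMap v from fun _ => rfl,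
    MultilinearMap.map_sum_finset, coeff_sum]
  exact Finset.sum_eq_zero fun e _ => coeff_det_pderiv_monomial hp hm e fun i => coeff (e i) (f i)

end Groth.Agent.H27Misc
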