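import Groth.Agent.H27Misc.FlatCokernel
import Groth.Prelude.Def_W4c1frobunstivaNR
import Mathlib

/-!
# Modules free up to nilpotent relations
-/

set_option autoImplicit false
set_option linter.style.haveILetI false
universe u v

open TensorProduct

noncomputable section

namespace Groth.Agent.H27Misc.NR

variable {R : Type u} [CommRing R] {M : Type v} [AddCommGroup M] [Module R M] {r : ℕ}

theorem span_image_eq_top (m : Fin r → M) (hm : Submodule.span R (Set.range m) = ⊤) :
    Submodule.span (R ⧸ nilradical R) (Set.range fun i => (1 : R ⧸ nilradical R) ⊗ₜ[R] m i) = ⊤ := by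
  rw [eq_top_iff]
  intro z _
  induction z using TensorProduct.induction_on with
  | zero => exact zero_mem _
  | add x y hx hy => exact add_mem (hx trivial) (hy trivial)
  | tmul a x =>
    obtain ⟨c, rfl⟩ := (Submodule.mem_span_range_iff_exists_fun R).mp (hm.ge (Submodule.mem_top (x := x)))
    rw [tmul_sum]
    refine sum_mem fun i _ => ?_
    have : a ⊗ₜ[R] (c i • m i) = (c i • a) • ((1 : R ⧸ nilradical R) ⊗ₜ[R] m i) := by
      rw [tmul_smul, TensorProduct.smul_tmul', TensorProduct.smul_tmul', smul_eq_mul, mul_one]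
    rw [this]
    exact Submodule.smul_mem _ _ (Submodule.subset_span ⟨i, rfl⟩)

theorem linearIndependent_image (m : Fin r → M) (hm : W4c1frobunstiva.IsNRBasis R M m) :
    LinearIndependent (R ⧸ nilradical R) fun i => (1 : R ⧸ nilradical R) ⊗ₜ[R] m i := by
  rw [Fintype.linearIndependent_iff]
  intro g hg i
  choose a ha using fun i => Ideal.Quotient.mk_surjective (g i)
  have h0 : (1 : R ⧸ nilradical R) ⊗ₜ[R] (∑ i, a i • m i) = 0 := by
    rw [← hg, tmul_sum]
    refine Finset.sum_congr rfl fun i _ => ?_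
    rw [tmul_smul, TensorProduct.smul_tmul', TensorProduct.smul_tmul', ← ha i, smul_eq_mul, mul_one]
    rw [← Ideal.Quotient.algebraMap_eq, ← Algebra.algebraMap_eq_smul_one]
  have h1 := congrArg (TensorProduct.quotTensorEquivQuotSMul M (nilradical R)) h0
  rw [← map_one (Ideal.Quotient.mk (nilradical R)), TensorProduct.quotTensorEquivQuotSMul_mk_tmul, map_zero,
    one_smul, Submodule.Quotient.mk_eq_zero, ← hm.1, Submodule.mem_ideal_smul_span_iff_exists_sum] at h1
  obtain ⟨b, hb, hsum⟩ := h1
  have h2 := hm.2 (fun i => a i - b i) (by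
    simp only [sub_smul, Finset.sum_sub_distrib]
    rw [sub_eq_zero, ← hsum]
    exact Finsupp.sum_fintype b (fun i c => c • m i) (fun i => zero_smul R (m i))) i
  rw [← ha i, Ideal.Quotient.eq_zero_iff_mem]
  simpa using add_mem (mem_nilradical.mpr h2) (hb i)

theorem eq_top_of_sup_nilradical [IsNoetherianRing R] (N : Submodule R M)
    (h : N ⊔ nilradical R • (⊤ : Submodule R M) = ⊤) : N = ⊤ := by
  obtain ⟨k, hk⟩ := IsNoetherianRing.isNilpotent_nilradical R
  have : ∀ j, N ⊔ nilradical R ^ j • (⊤ : Submodule R M) = ⊤ := by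
    intro j
    induction j with
    | zero => simp
    | succ j ih =>
      refine eq_top_iff.mpr ((le_of_eq ih.symm).trans (sup_le le_sup_left ?_))
      rw [← h, Submodule.smul_sup, pow_succ, ← Submodule.mul_smul]
      refine sup_le (Submodule.smul_le_right.trans le_sup_left) ?_
      rw [h]
      exact le_sup_right
  have hk' := this k
  rwa [hk, Ideal.zero_eq_bot, Submodule.bot_smul, sup_bot_eq] at hk'

theorem isNRBasis_of_basis [IsNoetherianRing R] (m : Fin r → M)
    (b : Module.Basis (Fin r) (R ⧸ nilradical R) ((R ⧸ nilradical R) ⊗[R] M))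
    (hb : ∀ i, b i = (1 : R ⧸ nilradical R) ⊗ₜ[R] m i) : W4c1frobunstiva.IsNRBasis R M m := by
  constructor
  · refine eq_top_of_sup_nilradical _ (eq_top_iff.mpr fun x _ => ?_)
    let z : Fin r → R ⧸ nilradical R := fun i => b.repr ((1 : R ⧸ nilradical R) ⊗ₜ[R] x) i
    choose a ha using fun i => Ideal.Quotient.mk_surjective (z i)
    have hx : (1 : R ⧸ nilradical R) ⊗ₜ[R] x = (1 : R ⧸ nilradical R) ⊗ₜ[R] (∑ i, a i • m i) := by
      rw [← b.sum_repr ((1 : R ⧸ nilradical R) ⊗ₜ[R] x), tmul_sum]
      refine Finset.sum_congr rfl fun i _ => ?_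
      rw [hb, tmul_smul, TensorProduct.smul_tmul', TensorProduct.smul_tmul', smul_eq_mul, mul_one]
      rw [show b.repr ((1 : R ⧸ nilradical R) ⊗ₜ[R] x) i = Ideal.Quotient.mk (nilradical R) (a i) from (ha i).symm,
        ← Ideal.Quotient.algebraMap_eq, Algebra.algebraMap_eq_smul_one]
    have h1 := congrArg (TensorProduct.quotTensorEquivQuotSMul M (nilradical R)) hx
    rw [← map_one (Ideal.Quotient.mk (nilradical R)), TensorProduct.quotTensorEquivQuotSMul_mk_tmul,
      TensorProduct.quotTensorEquivQuotSMul_mk_tmul, one_smul, one_smul, Submodule.Quotient.eq] at h1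
    exact Submodule.mem_sup.mpr ⟨∑ i, a i • m i,
      sum_mem fun i _ => Submodule.smul_mem _ _ (Submodule.subset_span ⟨i, rfl⟩),
      x - ∑ i, a i • m i, h1, by abel⟩
  · intro a ha i
    have h := Fintype.linearIndependent_iff.mp b.linearIndependent (fun i => Ideal.Quotient.mk (nilradical R) (a i)) ?_ i
    · exact mem_nilradical.mp (Ideal.Quotient.eq_zero_iff_mem.mp h)
    · have h0 : (1 : R ⧸ nilradical R) ⊗ₜ[R] (∑ i, a i • m i) = 0 := by rw [ha, tmul_zero]
      rw [← h0, tmul_sum]
      refine Finset.sum_congr rfl fun i _ => ?_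
      rw [hb, tmul_smul, TensorProduct.smul_tmul', TensorProduct.smul_tmul', smul_eq_mul, mul_one,
        ← Ideal.Quotient.algebraMap_eq, ← Algebra.algebraMap_eq_smul_one]

theorem isNRFree_iff [IsNoetherianRing R] :
    W4c1frobunstiva.IsNRFree R M r ↔
      Nonempty (Module.Basis (Fin r) (R ⧸ nilradical R) ((R ⧸ nilradical R) ⊗[R] M)) := by
  constructor
  · rintro ⟨m, hm⟩
    exact ⟨Module.Basis.mk (linearIndependent_image m hm) (span_image_eq_top m hm.1).ge⟩
  · rintro ⟨b⟩
    choose m hm using fun i => TensorProduct.mk_surjective R M (R ⧸ nilradical R) Ideal.Quotient.mk_surjective (b i)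
    exact ⟨m, isNRBasis_of_basis m b fun i => (hm i).symm⟩

theorem isNRBasis_of_span [IsNoetherianRing R] (hM : W4c1frobunstiva.IsNRFree R M r) (m : Fin r → M)
    (hm : Submodule.span R (Set.range m) = ⊤) : W4c1frobunstiva.IsNRBasis R M m := by
  obtain ⟨b⟩ := isNRFree_iff.mp hM
  let f : (Fin r → R ⧸ nilradical R) →ₗ[R ⧸ nilradical R] (R ⧸ nilradical R) ⊗[R] M :=
    Fintype.linearCombination (R ⧸ nilradical R) fun i => (1 : R ⧸ nilradical R) ⊗ₜ[R] m i
  have hf : Function.Surjective f := by
    rw [← LinearMap.range_eq_top, Fintype.range_linearCombination, span_image_eq_top m hm]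
  haveI : Module.Finite (R ⧸ nilradical R) ((R ⧸ nilradical R) ⊗[R] M) := Module.Finite.of_basis b
  let e := b.equivFun.symm
  have hs : Function.Surjective (e.symm.toLinearMap.comp f) := e.symm.surjective.comp hf
  have hi : Function.Injective (e.symm.toLinearMap.comp f) := OrzechProperty.injective_of_surjective_endomorphism _ hs
  have hfi : Function.Injective f := fun a c h => hi (congrArg e.symm h)
  refine isNRBasis_of_basis m (Module.Basis.ofEquivFun (LinearEquiv.ofBijective f ⟨hfi, hf⟩).symm) fun i => ?_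
  classical
  rw [Module.Basis.coe_ofEquivFun]
  change f (Pi.single i 1) = _
  simp [f, Fintype.linearCombination_apply, Pi.single_apply]

theorem exists_isUnit_matrix [IsNoetherianRing R] (hM : W4c1frobunstiva.IsNRFree R M r) (m m' : Fin r → M)
    (hm : Submodule.span R (Set.range m) = ⊤) (hm' : Submodule.span R (Set.range m') = ⊤) :
    ∃ T : Matrix (Fin r) (Fin r) R, IsUnit T ∧ ∀ j, m' j = ∑ i, T j i • m i := by
  classical
  choose T hT using fun j => (Submodule.mem_span_range_iff_exists_fun R).mp (hm.ge (Submodule.mem_top (x := m' j)))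
  choose U hU using fun j => (Submodule.mem_span_range_iff_exists_fun R).mp (hm'.ge (Submodule.mem_top (x := m j)))
  have hnil : ∀ i j, Ideal.Quotient.mk (nilradical R) (((Matrix.of U) * (Matrix.of T)) i j - (1 : Matrix _ _ R) i j) = 0 := by
    intro i j
    refine Ideal.Quotient.eq_zero_iff_mem.mpr (mem_nilradical.mpr ?_)
    refine (isNRBasis_of_span hM m hm).2 (fun j => ((Matrix.of U) * (Matrix.of T)) i j - (1 : Matrix _ _ R) i j) ?_ j
    simp only [sub_smul, Finset.sum_sub_distrib, Matrix.mul_apply, Matrix.of_apply, Finset.sum_smul, mul_smul]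
    rw [Finset.sum_comm]
    simp only [← Finset.smul_sum, hT]
    rw [hU, sub_eq_zero]
    simp [Matrix.one_apply]
  have hdet : Ideal.Quotient.mk (nilradical R) ((Matrix.of U) * (Matrix.of T)).det = 1 := by
    rw [RingHom.map_det]
    have : (Ideal.Quotient.mk (nilradical R)).mapMatrix ((Matrix.of U) * (Matrix.of T)) = 1 := by
      ext i j
      have h := hnil i j
      rw [map_sub, sub_eq_zero] at h
      rw [RingHom.mapMatrix_apply, Matrix.map_apply, h, Matrix.one_apply, Matrix.one_apply]
      split_ifs <;> simp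
    rw [this, Matrix.det_one]
  have hu : IsUnit ((Matrix.of U) * (Matrix.of T)).det := by
    have hn : IsNilpotent (((Matrix.of U) * (Matrix.of T)).det - 1) := by
      rw [← mem_nilradical, ← Ideal.Quotient.eq_zero_iff_mem, map_sub, hdet, map_one, sub_self]
    simpa using hn.isUnit_add_one
  rw [Matrix.det_mul] at hu
  exact ⟨Matrix.of T, (Matrix.isUnit_iff_isUnit_det _).mpr (isUnit_of_mul_isUnit_right hu), fun j => (hT j).symm⟩

theorem basis_ker_of_surjective {R : Type u} [CommRing R] [IsNoetherianRing R] [IsLocalRing R] {r t : ℕ}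
    (ψ : (Fin r → R) →ₗ[R] (Fin t → R)) (hψ : Function.Surjective ψ) :
    t ≤ r ∧ Nonempty (Module.Basis (Fin (r - t)) R (LinearMap.ker ψ)) := by
  obtain ⟨σ, hσ⟩ := Module.projective_lifting_property ψ LinearMap.id hψ
  have hsplit : ∀ x, x - σ (ψ x) ∈ LinearMap.ker ψ := fun x => by
    rw [LinearMap.mem_ker, map_sub, ← LinearMap.comp_apply ψ σ, hσ, LinearMap.id_apply, sub_self]
  let pr : (Fin r → R) →ₗ[R] LinearMap.ker ψ :=
    LinearMap.codRestrict (LinearMap.ker ψ) (LinearMap.id - σ.comp ψ) fun x => hsplit x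
  haveI : Module.Finite R (LinearMap.ker ψ) := Module.Finite.iff_fg.mpr (IsNoetherian.noetherian _)
  haveI : Module.Projective R (LinearMap.ker ψ) := Module.Projective.of_split (LinearMap.ker ψ).subtype pr (by
    refine LinearMap.ext fun x => Subtype.ext ?_
    show (x : Fin r → R) - σ (ψ x) = x
    rw [show ψ x = 0 from x.2, map_zero, sub_zero])
  haveI : Module.Free R (LinearMap.ker ψ) := Module.free_of_flat_of_isLocalRing
  have hker : Module.finrank R (LinearMap.ker ψ) + t = r := by
    let e : (Fin r → R) ≃ₗ[R] LinearMap.ker ψ × (Fin t → R) :=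
      LinearEquiv.ofLinearMap (pr.prod ψ) ((LinearMap.ker ψ).subtype.coprod σ)
        (by
          refine LinearMap.ext fun ⟨y, c⟩ => Prod.ext (Subtype.ext ?_) ?_
          · show ((y : Fin r → R) + σ c) - σ (ψ ((y : Fin r → R) + σ c)) = y
            rw [map_add, show ψ (y : Fin r → R) = 0 from y.2, zero_add, ← LinearMap.comp_apply ψ σ, hσ,
              LinearMap.id_apply, add_sub_cancel_right]
          · show ψ ((y : Fin r → R) + σ c) = c
            rw [map_add, show ψ (y : Fin r → R) = 0 from y.2, zero_add, ← LinearMap.comp_apply ψ σ, hσ,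
              LinearMap.id_apply])
        (by
          refine LinearMap.ext fun x => ?_
          show (x - σ (ψ x)) + σ (ψ x) = x
          rw [sub_add_cancel])
    have := e.finrank_eq
    rw [Module.finrank_prod, Module.finrank_fin_fun, Module.finrank_fin_fun] at this
    exact this.symm
  exact ⟨by omega, ⟨Module.finBasisOfFinrankEq R _ (by omega)⟩⟩

theorem isNRFree_of_basis {R : Type u} [CommRing R] {M : Type v} [AddCommGroup M] [Module R M] {n : ℕ}
    (b : Module.Basis (Fin n) R M) : W4c1frobunstiva.IsNRFree R M n :=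
  ⟨b, b.span_eq, fun a ha i => by
    rw [Fintype.linearIndependent_iff.mp b.linearIndependent a ha i]; exact IsNilpotent.zero⟩

theorem ker_isNRFree {R : Type u} [CommRing R] [IsNoetherianRing R] [IsLocalRing R] (f : R)
    (hann : ∀ a : R, a * f = 0 → IsNilpotent a) (r s l : ℕ) (hls : l ≤ s)
    (φ : (Fin r → R) →ₗ[R]
      ((Fin s → R) ⧸ Submodule.span R (Set.range fun i : Fin l => (Pi.single (Fin.castLE hls i) f : Fin s → R))))
    (hφ : Function.Surjective φ) :
    W4c1frobunstiva.IsNRFree R (LinearMap.ker φ) (r + l - s) ∧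
      (l = 0 → Nonempty (Module.Basis (Fin (r - s)) R (LinearMap.ker φ))) := by
  classical
  let P := Submodule.span R (Set.range fun i : Fin l => (Pi.single (Fin.castLE hls i) f : Fin s → R))
  obtain ⟨ψ, hψ⟩ := Module.projective_lifting_property P.mkQ φ P.mkQ_surjective
  by_cases hf : IsUnit f
  · let q : (Fin s → R) →ₗ[R] (Fin (s - l) → R) := LinearMap.pi fun j => LinearMap.proj ⟨l + (j : ℕ), by omega⟩
    have hq : LinearMap.ker q = P := by
      refine le_antisymm (fun x hx => ?_) (Submodule.span_le.mpr ?_)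
      · obtain ⟨g, hg⟩ := hf.exists_right_inv
        rw [← Finset.univ_sum_single x]
        refine sum_mem fun j _ => ?_
        by_cases hj : (j : ℕ) < l
        · have : Pi.single j (x j) = (x j * g) • (Pi.single (Fin.castLE hls ⟨j, hj⟩) f : Fin s → R) := by
            rw [← Pi.single_smul, smul_eq_mul, mul_assoc, mul_comm g, hg, mul_one]
            rfl
          rw [this]
          exact Submodule.smul_mem _ _ (Submodule.subset_span ⟨⟨j, hj⟩, rfl⟩)
        · have : x j = 0 := by
            have h := congrFun (LinearMap.mem_ker.mp hx) ⟨(j : ℕ) - l, by omega⟩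
            simpa [q, show l + ((j : ℕ) - l) = (j : ℕ) by omega] using h
          rw [this, Pi.single_zero]
          exact zero_mem _
      · rintro _ ⟨i, rfl⟩
        refine LinearMap.mem_ker.mpr (funext fun j => ?_)
        have hne : (⟨l + (j : ℕ), by omega⟩ : Fin s) ≠ Fin.castLE hls i := by
          simp [Fin.ext_iff]; omega
        simp [q, hne]
    have hqs : Function.Surjective q := fun y =>
      ⟨fun j => if h : l ≤ (j : ℕ) then y ⟨(j : ℕ) - l, by omega⟩ else 0, funext fun j => by simp [q]⟩
    have hker : LinearMap.ker (q.comp ψ) = LinearMap.ker φ := by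
      rw [LinearMap.ker_comp, hq, ← hψ, LinearMap.ker_comp, Submodule.ker_mkQ]
    obtain ⟨hle, ⟨b⟩⟩ := basis_ker_of_surjective (q.comp ψ) (fun y => by
      obtain ⟨x, rfl⟩ := hqs y
      obtain ⟨z, hz⟩ := hφ (P.mkQ x)
      rw [← hψ, LinearMap.comp_apply, Submodule.mkQ_apply, Submodule.mkQ_apply, Submodule.Quotient.eq] at hz
      refine ⟨z, sub_eq_zero.mp ?_⟩
      rw [LinearMap.comp_apply, ← map_sub, ← LinearMap.mem_ker, hq]
      exact hz)
    refine ⟨isNRFree_of_basis ((b.map (LinearEquiv.ofEq _ _ hker)).reindex (finCongr (by omega))), fun hl => ?_⟩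
    exact ⟨(b.map (LinearEquiv.ofEq _ _ hker)).reindex (finCongr (by omega))⟩
  · have hsup : (⊤ : Submodule R (Fin s → R)) ≤ LinearMap.range ψ ⊔ IsLocalRing.maximalIdeal R • ⊤ := by
      intro x _
      obtain ⟨z, hz⟩ := hφ (P.mkQ x)
      rw [← hψ, LinearMap.comp_apply, Submodule.mkQ_apply, Submodule.mkQ_apply, Submodule.Quotient.eq] at hz
      refine Submodule.mem_sup.mpr ⟨ψ z, ⟨z, rfl⟩, x - ψ z, ?_, by abel⟩
      have hP : P ≤ IsLocalRing.maximalIdeal R • ⊤ := Submodule.span_le.mpr (by
        rintro _ ⟨i, rfl⟩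
        show (Pi.single (Fin.castLE hls i) f : Fin s → R) ∈ _
        rw [← mul_one f, ← smul_eq_mul, Pi.single_smul]
        exact Submodule.smul_mem_smul hf Submodule.mem_top)
      exact hP (by rw [← neg_sub]; exact neg_mem hz)
    have hψs : Function.Surjective ψ := by
      rw [← LinearMap.range_eq_top, eq_top_iff]
      exact Submodule.le_of_le_smul_of_le_jacobson_bot Module.Finite.fg_top
        (IsLocalRing.maximalIdeal_le_jacobson _) hsup
    obtain ⟨hsr, ⟨b⟩⟩ := basis_ker_of_surjective ψ hψs
    choose z hz using fun i : Fin l => hψs (Pi.single (Fin.castLE hls i) f)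
    have hker : ∀ x, x ∈ LinearMap.ker φ ↔ ψ x ∈ P := fun x => by
      rw [LinearMap.mem_ker, ← hψ, LinearMap.comp_apply, Submodule.mkQ_apply, Submodule.Quotient.mk_eq_zero]
    let gen : Fin (r - s) ⊕ Fin l → LinearMap.ker φ :=
      Sum.elim (fun j => ⟨(b j : Fin r → R), (hker _).mpr (by rw [show ψ (b j : Fin r → R) = 0 from (b j).2]; exact zero_mem _)⟩)
        fun i => ⟨z i, (hker _).mpr (by rw [hz]; exact Submodule.subset_span ⟨i, rfl⟩)⟩
    let e : Fin (r + l - s) ≃ Fin (r - s) ⊕ Fin l := (finCongr (by omega)).trans finSumFinEquiv.symm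
    refine ⟨⟨gen ∘ e, ?_, ?_⟩, fun hl => ?_⟩
    · rw [EquivLike.range_comp gen e, eq_top_iff]
      intro x _
      obtain ⟨c, hc⟩ := (Submodule.mem_span_range_iff_exists_fun R).mp ((hker x.1).mp x.2)
      have hy : (x : Fin r → R) - ∑ i, c i • z i ∈ LinearMap.ker ψ := by
        simp only [LinearMap.mem_ker, map_sub, map_sum, map_smul, hz, hc, sub_self]
      refine (Submodule.mem_span_range_iff_exists_fun R).mpr ⟨Sum.elim (b.repr ⟨_, hy⟩) c, Subtype.ext ?_⟩
      simp only [Fintype.sum_sum_type, Submodule.coe_add, Submodule.coe_sum, Submodule.coe_smul, gen, Sum.elim_inl,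
        Sum.elim_inr]
      have := congrArg (fun y : LinearMap.ker ψ => (y : Fin r → R)) (b.sum_repr ⟨_, hy⟩)
      simp only [Submodule.coe_sum, Submodule.coe_smul] at this
      rw [this, sub_add_cancel]
    · intro a ha i
      obtain ⟨a, rfl⟩ : ∃ a', a = a' ∘ e := ⟨a ∘ e.symm, by simp [Function.comp_assoc]⟩
      have h' : ∑ q, a q • gen q = 0 := by rw [← ha]; exact (Equiv.sum_comp e fun q => a q • gen q).symm
      rw [Fintype.sum_sum_type] at h'
      have h0 := congrArg (fun y : LinearMap.ker φ => (y : Fin r → R)) h'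
      simp only [Submodule.coe_add, Submodule.coe_sum, Submodule.coe_smul, gen, Sum.elim_inl, Sum.elim_inr,
        Submodule.coe_zero] at h0
      have hr0 : ∀ i, a (Sum.inr i) * f = 0 := fun i => by
        have h1 := congrArg ψ h0
        simp only [map_add, map_sum, map_smul, hz, show ∀ j, ψ (b j : Fin r → R) = 0 from fun j => (b j).2, smul_zero,
          Finset.sum_const_zero, zero_add, map_zero] at h1
        have h2 := congrFun h1 (Fin.castLE hls i)
        simpa [Finset.sum_apply, Pi.single_apply, Fin.castLE_inj] using h2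
      show IsNilpotent (a (e i))
      rcases hq : e i with j | i'
      · have h1 : ∀ j, Ideal.Quotient.mk (nilradical R) (a (Sum.inl j)) = 0 := by
          intro j₀
          let Φ : LinearMap.ker ψ → Fin (r - s) → R := fun y => b.repr y
          have hmem : ∑ i, a (Sum.inr i) • z i ∈ LinearMap.ker ψ := by
            rw [LinearMap.mem_ker, map_sum]
            refine Finset.sum_eq_zero fun i _ => ?_
            rw [map_smul, hz, ← Pi.single_smul, smul_eq_mul, hr0, Pi.single_zero]
          have hsum : (⟨_, hmem⟩ : LinearMap.ker ψ) = -∑ j, a (Sum.inl j) • b j := Subtype.ext (by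
            simp only [Submodule.coe_neg, Submodule.coe_sum, Submodule.coe_smul]
            exact eq_neg_of_add_eq_zero_right h0)
          have hrep : b.repr ⟨_, hmem⟩ j₀ = -a (Sum.inl j₀) := by
            rw [hsum, map_neg, Finsupp.neg_apply, b.repr_sum_self]
          obtain ⟨σ, hσ⟩ := Module.projective_lifting_property ψ LinearMap.id hψs
          let pr : (Fin r → R) →ₗ[R] LinearMap.ker ψ :=
            LinearMap.codRestrict (LinearMap.ker ψ) (LinearMap.id - σ.comp ψ) fun x => by
              rw [LinearMap.mem_ker]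
              show ψ (x - σ (ψ x)) = 0
              rw [map_sub, ← LinearMap.comp_apply ψ σ, hσ, LinearMap.id_apply, sub_self]
          have hpr : pr (∑ i, a (Sum.inr i) • z i) = ⟨_, hmem⟩ := Subtype.ext (by
            show (∑ i, a (Sum.inr i) • z i) - σ (ψ (∑ i, a (Sum.inr i) • z i)) = _
            rw [show ψ (∑ i, a (Sum.inr i) • z i) = 0 from hmem, map_zero, sub_zero])
          rw [Ideal.Quotient.eq_zero_iff_mem, ← neg_mem_iff, ← hrep, ← hpr, map_sum, map_sum, Finsupp.coe_finsetSum,
            Finset.sum_apply]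
          refine sum_mem fun i _ => ?_
          rw [map_smul, map_smul, Finsupp.smul_apply, smul_eq_mul]
          exact Ideal.mul_mem_right _ _ (mem_nilradical.mpr (hann _ (hr0 i)))
        exact mem_nilradical.mp (Ideal.Quotient.eq_zero_iff_mem.mp (h1 j))
      · exact hann _ (hr0 i')
    · subst hl
      have hk : LinearMap.ker ψ = LinearMap.ker φ := by
        ext x
        rw [hker, show P = ⊥ by simp [P, Set.range_eq_empty], Submodule.mem_bot, LinearMap.mem_ker]
      exact ⟨b.map (LinearEquiv.ofEq _ _ hk)⟩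

theorem isReduced_flat_dvr {A : Type u} [CommRing A] [IsDomain A] [IsBezout A] {B : Type v} [CommRing B]
    [Algebra A B] [IsNoetherianRing B] (hirr : (nilradical B).IsPrime)
    (hdom : (nilradical B).comap (algebraMap A B) = ⊥)
    (hfib : ∀ p : PrimeSpectrum A, IsReduced (p.asIdeal.ResidueField ⊗[A] B)) :
    IsReduced B ∧ Module.Flat A B := by
  haveI := hirr
  haveI hflat : Module.Flat A (B ⧸ nilradical B) := by
    rw [Module.Flat.flat_iff_torsion_eq_bot_of_isBezout, eq_bot_iff]
    rintro x ⟨⟨c, hc⟩, hcx⟩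
    have hcx' : algebraMap A (B ⧸ nilradical B) c * x = 0 := by rw [← Algebra.smul_def]; exact hcx
    rw [Submodule.mem_bot]
    refine (mul_eq_zero.mp hcx').resolve_left fun h => nonZeroDivisors.ne_zero hc ?_
    rw [IsScalarTower.algebraMap_apply A B, Ideal.Quotient.algebraMap_eq, Ideal.Quotient.eq_zero_iff_mem,
      ← Ideal.mem_comap, hdom] at h
    exact h
  haveI hred := H27Misc.isReduced_of_flat_reduction hfib
  exact ⟨hred, Module.Flat.of_linearEquiv
    ((Ideal.quotientEquivAlgOfEq A (nilradical_eq_zero B)).trans (AlgEquiv.quotientBot A B)).toLinearEquiv.symm⟩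

end Groth.Agent.H27Misc.NR
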