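import Mathlib

/-!
# Iterates of a display in normal form
-/

set_option autoImplicit false
universe u v

namespace Groth.Agent.H27Misc

theorem iterate_normalForm {W : Type u} [CommRing W] (σ : W →+* W) (p : ℕ) {M : Type v} [AddCommGroup M]
    [Module W M] (F : M →+ M) (hF : ∀ (w : W) (m : M), F (w • m) = σ w • F m)
    (d c : ℕ) (hd : 0 < d) (hc : 0 < c) (a : ℕ → ℕ → W) (e : ℕ → M)
    (h1 : ∀ i : ℕ, 1 ≤ i → i < d → F (e i) = e (i + 1))
    (h2 : F (e d) = (∑ i ∈ Finset.Icc 1 d, a i d • e i) + e (d + 1))
    (h3 : ∀ j : ℕ, d < j → j < d + c →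
      F (e j) = (∑ i ∈ Finset.Icc 1 d, ((p : W) * a i j) • e i) + (p : W) • e (j + 1))
    (h4 : F (e (d + c)) = ∑ i ∈ Finset.Icc 1 d, ((p : W) * a i (d + c)) • e i) :
    (⇑F)^[d + c] (e 1) = ∑ i ∈ Finset.Icc 1 d, ∑ j ∈ Finset.Icc d (d + c),
      ((p : W) ^ (j - d) * (⇑σ)^[d + c - j] (a i j)) • (⇑F)^[d + c + i - j - 1] (e 1) := by
  have he : ∀ i, 1 ≤ i → i ≤ d → (⇑F)^[i - 1] (e 1) = e i := by
    intro i hi
    induction i, hi using Nat.le_induction with
    | base => intro _; rfl
    | succ i hi ih =>
      intro hid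
      rw [show i + 1 - 1 = (i - 1) + 1 by omega, Function.iterate_succ_apply', ih (by omega), h1 i hi hid]
  have hP : ∀ j, d ≤ j → j ≤ d + c → (⇑F)^[j] (e 1) = (if j < d + c then (p : W) ^ (j - d) • e (j + 1) else 0) +
      ∑ i ∈ Finset.Icc 1 d, ∑ l ∈ Finset.Icc d j,
        ((p : W) ^ (l - d) * (⇑σ)^[j - l] (a i l)) • (⇑F)^[j + i - l - 1] (e 1) := by
    intro j hj
    induction j, hj using Nat.le_induction with
    | base =>
      intro _
      have hd1 : (⇑F)^[d] (e 1) = F (e d) := by
        rw [← he d hd le_rfl, ← Function.iterate_succ_apply' F, show (d - 1).succ = d by omega]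
      rw [hd1, h2, if_pos (show d < d + c by omega), Nat.sub_self, pow_zero, one_smul, add_comm]
      congr 1
      refine Finset.sum_congr rfl fun i hi => ?_
      obtain ⟨hi1, hi2⟩ := Finset.mem_Icc.mp hi
      rw [Finset.Icc_self, Finset.sum_singleton, Nat.sub_self, pow_zero, one_mul, Function.iterate_zero_apply,
        show d + i - d - 1 = i - 1 by omega, he i hi1 hi2]
    | succ j hj ih =>
      intro hjc
      rw [Function.iterate_succ_apply', ih (by omega), if_pos (show j < d + c by omega), map_add, hF,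
        map_pow, map_natCast, map_sum]
      have hnext : F (e (j + 1)) = (∑ i ∈ Finset.Icc 1 d, ((p : W) * a i (j + 1)) • e i) +
          (if j + 1 < d + c then (p : W) • e (j + 1 + 1) else 0) := by
        by_cases h : j + 1 < d + c
        · rw [if_pos h, h3 _ (by omega) h]
        · rw [if_neg h, show j + 1 = d + c by omega, h4, add_zero]
      rw [hnext, smul_add, add_comm (((p : W) ^ (j - d)) • ∑ i ∈ Finset.Icc 1 d, _), add_assoc,
        Finset.smul_sum, ← Finset.sum_add_distrib]
      congr 1
      · split_ifs with h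
        · rw [smul_smul, ← pow_succ, show j - d + 1 = j + 1 - d by omega]
        · rw [smul_zero]
      · refine Finset.sum_congr rfl fun i hi => ?_
        obtain ⟨hi1, hi2⟩ := Finset.mem_Icc.mp hi
        rw [Finset.sum_Icc_succ_top (show d ≤ j + 1 by omega), map_sum, add_comm]
        congr 1
        · refine Finset.sum_congr rfl fun l hl => ?_
          obtain ⟨hl1, hl2⟩ := Finset.mem_Icc.mp hl
          rw [hF, map_mul, map_pow, map_natCast, ← Function.iterate_succ_apply' σ,
            ← Function.iterate_succ_apply' F, show (j - l).succ = j + 1 - l by omega,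
            show (j + i - l - 1).succ = j + 1 + i - l - 1 by omega]
        · rw [smul_smul, Nat.sub_self, Function.iterate_zero_apply, show j + 1 + i - (j + 1) - 1 = i - 1 by omega,
            he i hi1 hi2, ← mul_assoc, ← pow_succ, show j - d + 1 = j + 1 - d by omega]
  rw [hP (d + c) (by omega) le_rfl, if_neg (by omega), zero_add]

end Groth.Agent.H27Misc
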