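import Mathlib

/-!
# Row-reduced forms of matrices over formal power series
-/

set_option autoImplicit false
set_option linter.style.haveILetI false
universe u

open PowerSeries

namespace Groth.Agent.H27Misc.RowRed

variable {k : Type u} [Field k] {r : ℕ}

theorem exists_cut (f : PowerSeries k) (e : ℕ) :
    ∃ c : PowerSeries k, ∀ n, e ≤ n → coeff n (f + c * X ^ e) = 0 := by
  refine ⟨-mk fun n => coeff (n + e) f, fun n hn => ?_⟩
  rw [map_add, coeff_mul_X_pow', if_pos hn, map_neg, coeff_mk, Nat.sub_add_cancel hn, add_neg_cancel]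

theorem exists_cut_mod (f : PowerSeries k) (e p : ℕ) :
    ∃ c : PowerSeries k, (∀ n, ¬ p ∣ n → coeff n c = 0) ∧
      ∀ n, e ≤ n → n % p = e % p → coeff n (f + c * X ^ e) = 0 := by
  classical
  refine ⟨-mk fun n => if p ∣ n then coeff (n + e) f else 0, fun n hn => by simp [hn], fun n hn hmod => ?_⟩
  rw [map_add, coeff_mul_X_pow', if_pos hn, map_neg, coeff_mk,
    if_pos ((Nat.modEq_iff_dvd' hn).mp hmod.symm), Nat.sub_add_cancel hn, add_neg_cancel]

/-- Two series with no terms of degree at least `e` whose difference is a multiple of `X^e` are equal. -/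
theorem eq_zero_of_dvd (f : PowerSeries k) (e : ℕ) (h : X ^ e ∣ f) (h' : ∀ n, e ≤ n → coeff n f = 0) : f = 0 := by
  ext n
  rw [map_zero]
  rcases lt_or_ge n e with hn | hn
  · exact X_pow_dvd_iff.mp h n hn
  · exact h' n hn

/-- Upper triangular with powers of the variable on the diagonal. -/
def Tri (e : Fin r → ℕ) (H : Matrix (Fin r) (Fin r) (PowerSeries k)) : Prop :=
  (∀ i, H i i = X ^ e i) ∧ ∀ i j, j < i → H i j = 0

/-- Row reduced. -/
def Red (e : Fin r → ℕ) (H : Matrix (Fin r) (Fin r) (PowerSeries k)) : Prop :=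
  Tri e H ∧ ∀ i j, i < j → ∀ n, e j ≤ n → coeff n (H i j) = 0

theorem vecMul_apply_tri {e : Fin r → ℕ} {H : Matrix (Fin r) (Fin r) (PowerSeries k)} (hH : Tri e H)
    (c : Fin r → PowerSeries k) (i : Fin r) (hc : ∀ j, j < i → c j = 0) :
    Matrix.vecMul c H i = c i * X ^ e i := by
  rw [Matrix.vecMul, dotProduct, Finset.sum_eq_single i (fun j _ hj => ?_) (by simp), hH.1]
  rcases lt_or_gt_of_ne hj with h | h
  · rw [hc j h, zero_mul]
  · rw [hH.2 j i h, mul_zero]

theorem coeffs_eq_zero_of_vecMul {e : Fin r → ℕ} {H : Matrix (Fin r) (Fin r) (PowerSeries k)} (hH : Tri e H)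
    (c : Fin r → PowerSeries k) (i : Fin r) (hv : ∀ j, j < i → Matrix.vecMul c H j = 0) :
    ∀ j, j < i → c j = 0 := by
  intro j
  induction j using WellFoundedLT.induction with
  | _ j ih =>
    intro hj
    have := hv j hj
    rw [vecMul_apply_tri hH c j fun l hl => ih l hl (hl.trans hj)] at this
    exact (mul_eq_zero.mp this).resolve_right (pow_ne_zero _ X_ne_zero)

theorem red_unique {e e' : Fin r → ℕ} {H H' : Matrix (Fin r) (Fin r) (PowerSeries k)} (hH : Red e H)
    (hH' : Red e' H') (A B : Matrix (Fin r) (Fin r) (PowerSeries k)) (hA : A * H = H') (hB : B * H' = H) :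
    H = H' := by
  have hdvd : ∀ {e e' : Fin r → ℕ} {H H' : Matrix (Fin r) (Fin r) (PowerSeries k)}, Tri e H → Tri e' H' →
      ∀ A : Matrix (Fin r) (Fin r) (PowerSeries k), A * H = H' → ∀ i, e i ≤ e' i := by
    intro e e' H H' hH hH' A hA i
    have hrow : Matrix.vecMul (A i) H = H' i := by rw [← hA]; rfl
    have h0 := coeffs_eq_zero_of_vecMul hH (A i) i fun j hj => by rw [hrow]; exact hH'.2 i j hj
    have h := vecMul_apply_tri hH (A i) i h0
    rw [hrow, hH'.1] at h
    by_contra hlt
    have h1 := congrArg (coeff (e' i)) h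
    rw [coeff_X_pow_self, coeff_mul_X_pow', if_neg hlt] at h1
    exact one_ne_zero h1
  have hee : e = e' := funext fun i => le_antisymm (hdvd hH.1 hH'.1 A hA i) (hdvd hH'.1 hH.1 B hB i)
  subst hee
  refine Matrix.ext fun i j => ?_
  let d : Fin r → PowerSeries k := A i - Pi.single i 1
  have hd : Matrix.vecMul d H = H' i - H i := by
    rw [Matrix.sub_vecMul, Matrix.single_one_vecMul, ← hA]
    rfl
  have hz : ∀ l, d l = 0 := by
    intro l
    induction l using WellFoundedLT.induction with
    | _ l ih =>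
      have h := vecMul_apply_tri hH.1 d l ih
      rw [hd, Pi.sub_apply] at h
      have hdiv : X ^ e l ∣ H' i l - H i l := ⟨d l, by rw [h, mul_comm]⟩
      have hzero : H' i l - H i l = 0 := by
        rcases lt_trichotomy l i with hl | rfl | hl
        · rw [hH.1.2 i l hl, hH'.1.2 i l hl, sub_zero]
        · rw [hH.1.1, hH'.1.1, sub_self]
        · exact eq_zero_of_dvd _ _ hdiv fun n hn => by
            rw [map_sub, hH.2 i l hl n hn, hH'.2 i l hl n hn, sub_zero]
      rw [hzero] at h
      exact (mul_eq_zero.mp h.symm).resolve_right (pow_ne_zero _ X_ne_zero)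
  have := congrFun hd j
  rw [show d = 0 from funext hz, Matrix.zero_vecMul, Pi.zero_apply, Pi.sub_apply, eq_comm, sub_eq_zero] at this
  exact this.symm

theorem exists_tri (M : Matrix (Fin r) (Fin r) (PowerSeries k)) (hM : M.det ≠ 0) :
    ∃ (e : Fin r → ℕ) (N : Matrix (Fin r) (Fin r) (PowerSeries k)), IsUnit N ∧ Tri e (N * M) := by
  classical
  have hrow : ∀ i : Fin r, ∃ (e : ℕ) (w : Fin r → PowerSeries k),
      (∀ j, j < i → Matrix.vecMul w M j = 0) ∧ Matrix.vecMul w M i = X ^ e ∧
      ∀ w' : Fin r → PowerSeries k, (∀ j, j < i → Matrix.vecMul w' M j = 0) → X ^ e ∣ Matrix.vecMul w' M i := by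
    intro i
    let I : Ideal (PowerSeries k) :=
      { carrier := {f | ∃ w : Fin r → PowerSeries k, (∀ j, j < i → Matrix.vecMul w M j = 0) ∧ Matrix.vecMul w M i = f}
        zero_mem' := ⟨0, fun j _ => by simp, by simp⟩
        add_mem' := fun {f g} hf hg => by
          obtain ⟨v, hv, rfl⟩ := hf
          obtain ⟨w, hw, rfl⟩ := hg
          exact ⟨v + w, fun j hj => by rw [Matrix.add_vecMul, Pi.add_apply, hv j hj, hw j hj, add_zero],
            by rw [Matrix.add_vecMul, Pi.add_apply]⟩
        smul_mem' := fun c f hf => by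
          obtain ⟨v, hv, rfl⟩ := hf
          exact ⟨c • v, fun j hj => by rw [Matrix.smul_vecMul, Pi.smul_apply, hv j hj, smul_zero],
            by rw [Matrix.smul_vecMul, Pi.smul_apply]⟩ }
    have hadj : Matrix.vecMul (M.adjugate i) M = M.det • Pi.single i 1 := by
      show (M.adjugate * M) i = _
      rw [Matrix.adjugate_mul, Pi.smul_def]
      ext j
      simp [Matrix.one_apply, Pi.single_apply, eq_comm]
    have hne : I ≠ ⊥ := fun h => by
      have hm : M.det ∈ I :=
        ⟨M.adjugate i, fun j hj => by rw [hadj]; simp [hj.ne], by rw [hadj]; simp⟩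
      rw [h, Ideal.mem_bot] at hm
      exact hM hm
    obtain ⟨e, he⟩ := IsDiscreteValuationRing.ideal_eq_span_pow_irreducible hne (X_irreducible (R := k))
    obtain ⟨w, hw, hw'⟩ : X ^ e ∈ I := by rw [he]; exact Ideal.mem_span_singleton_self _
    refine ⟨e, w, hw, hw', fun w' h' => ?_⟩
    exact Ideal.mem_span_singleton.mp (he ▸ (⟨w', h', rfl⟩ : Matrix.vecMul w' M i ∈ I))
  choose e w hw hw' hdvd using hrow
  let N : Matrix (Fin r) (Fin r) (PowerSeries k) := Matrix.of w
  have hNM : ∀ i, (N * M) i = Matrix.vecMul (w i) M := fun i => rfl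
  have htri : Tri e (N * M) := ⟨fun i => by rw [hNM, hw'], fun i j hj => by rw [hNM]; exact hw i j hj⟩
  have hgen : ∀ l : ℕ, ∀ v : Fin r → PowerSeries k, (∀ j : Fin r, (j : ℕ) < r - l → Matrix.vecMul v M j = 0) →
      ∃ c, Matrix.vecMul c (N * M) = Matrix.vecMul v M := by
    intro l
    induction l with
    | zero => exact fun v hv => ⟨0, by rw [Matrix.zero_vecMul]; exact funext fun j => (hv j (by omega)).symm⟩
    | succ l ih =>
      intro v hv
      by_cases hl : l < r
      · let i : Fin r := ⟨r - (l + 1), by omega⟩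
        obtain ⟨a, ha⟩ := hdvd i v fun j hj => hv j hj
        obtain ⟨c, hc⟩ := ih (v - a • w i) fun j hj => by
          rw [Matrix.sub_vecMul, Matrix.smul_vecMul, Pi.sub_apply, Pi.smul_apply, smul_eq_mul]
          rcases lt_or_eq_of_le (show (j : ℕ) ≤ r - (l + 1) by omega) with h | h
          · rw [hv j h, hw i j h, mul_zero, sub_zero]
          · rw [show j = i from Fin.ext h, hw', ha, mul_comm, sub_self]
        refine ⟨c + Pi.single i a, ?_⟩
        rw [Matrix.add_vecMul, hc, Matrix.sub_vecMul, Matrix.smul_vecMul, ← hNM,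
          show Matrix.vecMul (Pi.single i a) (N * M) = a • (N * M) i from by ext j; simp [Matrix.single_vecMul],
          sub_add_cancel]
      · exact ih v fun j hj => hv j (by omega)
  have hB : ∀ i, ∃ c, Matrix.vecMul c (N * M) = Matrix.vecMul (Pi.single i 1) M :=
    fun i => hgen r (Pi.single i 1) fun j hj => by omega
  choose B hB using hB
  have hBN : (Matrix.of B * N) * M = 1 * M := by
    rw [Matrix.mul_assoc, one_mul]
    refine Matrix.ext fun i j => ?_
    show Matrix.vecMul (B i) (N * M) j = _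
    rw [hB i, Matrix.single_one_vecMul]
    rfl
  have hdet : (Matrix.of B).det * N.det = 1 := by
    have h := congrArg Matrix.det hBN
    rw [Matrix.det_mul, Matrix.det_mul, Matrix.det_mul, Matrix.det_one, one_mul] at h
    exact mul_right_cancel₀ hM (h.trans (one_mul _).symm)
  exact ⟨e, N, (Matrix.isUnit_iff_isUnit_det _).mpr (IsUnit.of_mul_eq_one _ ((mul_comm _ _).trans hdet)), htri⟩

/-- The columns before the `j`-th one are reduced (including the congruence condition when `p` is given). -/
def RedBelow (p : Option ℕ) (e : Fin r → ℕ) (H : Matrix (Fin r) (Fin r) (PowerSeries k)) (l : ℕ) : Prop :=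
  Tri e H ∧ ∀ i j : Fin r, i < j → (j : ℕ) < l → ∀ n,
    (e j ≤ n ∨ ∃ q ∈ p, e i ≤ n ∧ n % q = e i % q) → coeff n (H i j) = 0

theorem exists_colCorrection (e : Fin r → ℕ) (p : ℕ) (H : Matrix (Fin r) (Fin r) (PowerSeries k))
    (hH : Tri e H) (j : Fin r) (l : ℕ) :
    ∃ c : Fin r → PowerSeries k, (∀ a n, ¬ p ∣ n → coeff n (c a) = 0) ∧
      (∀ a : Fin r, ((a : ℕ) + l < (j : ℕ) ∨ j ≤ a) → c a = 0) ∧
      ∀ i : Fin r, i < j → (j : ℕ) ≤ (i : ℕ) + l → ∀ n, e i ≤ n → n % p = e i % p →
        coeff n (H i j + ∑ a, H i a * c a) = 0 := by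
  classical
  induction l with
  | zero => exact ⟨0, by simp, fun a _ => rfl, fun i hi h => absurd hi (by simp only [Fin.lt_def]; omega)⟩
  | succ l ih =>
    obtain ⟨c, hc1, hc2, hc3⟩ := ih
    by_cases hl : l < (j : ℕ)
    · let i₀ : Fin r := ⟨(j : ℕ) - (l + 1), by omega⟩
      obtain ⟨d, hd1, hd2⟩ := exists_cut_mod (H i₀ j + ∑ a, H i₀ a * c a) (e i₀) p
      refine ⟨c + Pi.single i₀ d, fun a n hn => ?_, fun a ha => ?_, fun i hi hil n hn hmod => ?_⟩
      · by_cases h : a = i₀ <;> simp [h, hc1 _ n hn, hd1 n hn]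
      · have hai : a ≠ i₀ := fun h => by
          subst h
          simp only [i₀, Fin.le_def] at ha
          omega
        have : c a = 0 := hc2 a (ha.imp (fun h => by omega) id)
        simp [hai, this]
      · have hsum : ∑ a, H i a * (c + (Pi.single i₀ d : Fin r → PowerSeries k)) a = (∑ a, H i a * c a) + H i i₀ * d := by
          simp only [Pi.add_apply, mul_add, Finset.sum_add_distrib, Pi.single_apply, mul_ite, mul_zero,
            Finset.sum_ite_eq', Finset.mem_univ, if_true]
        rw [hsum, ← add_assoc]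
        by_cases h : i = i₀
        · subst h
          rw [hH.1, mul_comm (X ^ _) d]
          exact hd2 n hn hmod
        · have hlt : i₀ < i := by
            have : (i : ℕ) ≠ (i₀ : ℕ) := fun e => h (Fin.ext e)
            simp only [Fin.lt_def, i₀] at this ⊢
            omega
          rw [hH.2 i i₀ hlt, zero_mul, add_zero]
          exact hc3 i hi (by simp only [Fin.lt_def, i₀] at hlt; omega) n hn hmod
    · exact ⟨c, hc1, fun a ha => hc2 a (ha.imp (fun h => by omega) id),
        fun i hi hil => hc3 i hi (by omega)⟩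

theorem exists_redBelow (p : Option ℕ) (e : Fin r → ℕ) (H : Matrix (Fin r) (Fin r) (PowerSeries k))
    (hH : Tri e H) (l : ℕ) :
    ∃ N P : Matrix (Fin r) (Fin r) (PowerSeries k), IsUnit N ∧ IsUnit P ∧ (p = none → P = 1) ∧
      (∀ q ∈ p, ∀ a b n, ¬ q ∣ n → coeff n (P a b) = 0) ∧ RedBelow p e (N * H * P) l := by
  classical
  induction l with
  | zero =>
    refine ⟨1, 1, isUnit_one, isUnit_one, fun _ => rfl, fun q _ a b n hn => ?_,
      by simpa using hH, fun i j _ h => absurd h (Nat.not_lt_zero _)⟩
    rw [Matrix.one_apply]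
    split_ifs
    · rw [coeff_one, if_neg (show ¬ n = 0 from fun h => hn (h ▸ dvd_zero q))]
    · exact map_zero _
  | succ l ih =>
    obtain ⟨N, P, hN, hP, hP1, hPq, hred⟩ := ih
    by_cases hl : l < r
    swap
    · exact ⟨N, P, hN, hP, hP1, hPq, hred.1, fun i j hij hj => hred.2 i j hij (by omega)⟩
    let j : Fin r := ⟨l, hl⟩
    set K := N * H * P with hK
    have hc : ∃ c : Fin r → PowerSeries k, (∀ a, j ≤ a → c a = 0) ∧ (p = none → c = 0) ∧
        (∀ q ∈ p, ∀ a n, ¬ q ∣ n → coeff n (c a) = 0) ∧
        ∀ i : Fin r, i < j → ∀ q ∈ p, ∀ n, e i ≤ n → n % q = e i % q →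
          coeff n (K i j + ∑ a, K i a * c a) = 0 := by
      rcases p with _ | q
      · exact ⟨0, fun _ _ => rfl, fun _ => rfl, by simp, by simp⟩
      · obtain ⟨c, h1, h2, h3⟩ := exists_colCorrection e q K hred.1 j l
        refine ⟨c, fun a ha => h2 a (Or.inr ha), by simp, fun q' hq' => ?_, fun i hi q' hq' => ?_⟩
        · obtain rfl : q = q' := by simpa using hq'
          exact h1
        · obtain rfl : q = q' := by simpa using hq'
          exact h3 i hi (by simp [j])
    obtain ⟨c, hc0, hcn, hcq, hc⟩ := hc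
    let Pj : Matrix (Fin r) (Fin r) (PowerSeries k) := Matrix.updateCol 1 j (Pi.single j 1 + c)
    let K' := K * Pj
    have hK'j : ∀ i, K' i j = K i j + ∑ a, K i a * c a := fun i => by
      show ∑ a, K i a * Matrix.updateCol 1 j (Pi.single j 1 + c) a j = _
      simp only [Matrix.updateCol_self, Pi.add_apply, mul_add, Finset.sum_add_distrib, Pi.single_apply, mul_ite,
        mul_one, mul_zero, Finset.sum_ite_eq', Finset.mem_univ, if_true]
    have hK'o : ∀ i b, b ≠ j → K' i b = K i b := fun i b hb => by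
      show ∑ a, K i a * Matrix.updateCol 1 j (Pi.single j 1 + c) a b = _
      simp [Matrix.updateCol_ne hb, Matrix.one_apply]
    have hK'tri : Tri e K' := by
      have h0 : ∀ i, j ≤ i → ∑ a, K i a * c a = 0 := fun i hi => Finset.sum_eq_zero fun a _ => by
        by_cases ha : j ≤ a
        · rw [hc0 a ha, mul_zero]
        · rw [hred.1.2 i a ((not_le.mp ha).trans_le hi), zero_mul]
      refine ⟨fun i => ?_, fun i b hb => ?_⟩
      · by_cases h : i = j
        · rw [h, hK'j, h0 j le_rfl, add_zero, hred.1.1]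
        · rw [hK'o i i h, hred.1.1]
      · by_cases h : b = j
        · subst h; rw [hK'j, h0 i hb.le, add_zero, hred.1.2 i j hb]
        · rw [hK'o i b h, hred.1.2 i b hb]
    choose d hd using fun i : Fin r => exists_cut (K' i j) (e j)
    let Nj : Matrix (Fin r) (Fin r) (PowerSeries k) :=
      Matrix.updateCol 1 j (Pi.single j 1 + fun i => if i < j then d i else 0)
    have hNK : ∀ i b, (Nj * K') i b = K' i b + (if i < j then d i else 0) * K' j b := fun i b => by
      show ∑ a, Matrix.updateCol 1 j (Pi.single j 1 + fun i => if i < j then d i else 0) i a * K' a b = _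
      rw [Finset.sum_eq_add_sum_sdiff_singleton_of_mem (Finset.mem_univ j), Matrix.updateCol_self]
      have : ∑ a ∈ Finset.univ \ {j}, Matrix.updateCol 1 j (Pi.single j 1 + fun i => if i < j then d i else 0) i a * K' a b =
          if i = j then 0 else K' i b := by
        rw [Finset.sum_congr rfl fun a ha => by rw [Matrix.updateCol_ne (by simpa using ha)]]
        split_ifs with h
        · exact Finset.sum_eq_zero fun a ha => by
            have : a ≠ j := by simpa using ha
            simp [Matrix.one_apply, h, this.symm]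
        · rw [Finset.sum_eq_single i (fun a _ ha => by simp [Matrix.one_apply, Ne.symm ha]) (by simp [h])]
          simp
      rw [this, Pi.add_apply, Pi.single_apply]
      by_cases h1 : i = j
      · rw [if_pos h1, if_pos h1, if_neg (by rw [h1]; exact lt_irrefl j), h1]
        ring
      · rw [if_neg h1, if_neg h1]
        ring
    refine ⟨Nj * N, P * Pj, ?_, ?_, fun h => ?_, fun q hq a b n hn => ?_, ?_⟩
    · refine IsUnit.mul ((Matrix.isUnit_iff_isUnit_det _).mpr ?_) hN
      have : Nj.det = 1 := by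
        rw [Matrix.det_of_isUpperTriangular]
        · refine Finset.prod_eq_one fun a _ => ?_
          by_cases h : a = j
          · subst h; simp [Nj]
          · simp [Nj, Matrix.updateCol_ne h]
        · intro a b hab
          have hab' : b < a := hab
          by_cases h : b = j
          · subst h; simp [Nj, hab'.ne', hab'.not_gt]
          · simp [Nj, Matrix.updateCol_ne h, hab'.ne']
      rw [this]; exact isUnit_one
    · refine hP.mul ((Matrix.isUnit_iff_isUnit_det _).mpr ?_)
      have : Pj.det = 1 := by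
        rw [Matrix.det_of_isUpperTriangular]
        · refine Finset.prod_eq_one fun a _ => ?_
          by_cases h : a = j
          · subst h; simp [Pj, hc0]
          · simp [Pj, Matrix.updateCol_ne h]
        · intro a b hab
          have hab' : b < a := hab
          by_cases h : b = j
          · subst h; simp [Pj, hab'.ne', hc0 a hab'.le]
          · simp [Pj, Matrix.updateCol_ne h, hab'.ne']
      rw [this]; exact isUnit_one
    · rw [hP1 h, one_mul]
      show Matrix.updateCol 1 j (Pi.single j 1 + c) = 1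
      rw [hcn h, add_zero]
      ext a b
      by_cases hb : b = j
      · subst hb; simp [Matrix.one_apply, Pi.single_apply]
      · simp [Matrix.updateCol_ne hb]
    · show coeff n (∑ x, P a x * Pj x b) = 0
      rw [map_sum]
      refine Finset.sum_eq_zero fun x _ => ?_
      rw [coeff_mul]
      refine Finset.sum_eq_zero fun st hst => ?_
      rw [Finset.HasAntidiagonal.mem_antidiagonal] at hst
      by_cases h1 : q ∣ st.1
      · have h2 : ¬ q ∣ st.2 := fun h2 => hn (hst ▸ dvd_add h1 h2)
        have : coeff st.2 (Pj x b) = 0 := by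
          have hone : ∀ y z : Fin r, coeff st.2 ((1 : Matrix (Fin r) (Fin r) (PowerSeries k)) y z) = 0 := by
            intro y z
            rw [Matrix.one_apply]
            split_ifs
            · rw [coeff_one, if_neg (show ¬ st.2 = 0 from fun h => h2 (h ▸ dvd_zero q))]
            · exact map_zero _
          by_cases hb : b = j
          · subst hb
            simp only [Pj, Matrix.updateCol_self, Pi.add_apply, map_add, hcq q hq x _ h2, add_zero]
            have := hone x j
            rw [Matrix.one_apply] at this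
            rwa [Pi.single_apply]
          · simp only [Pj, Matrix.updateCol_ne hb]; exact hone x b
        rw [this, mul_zero]
      · rw [hPq q hq a x _ h1, zero_mul]
    · have hmat : Nj * N * H * (P * Pj) = Nj * K' := by
        simp only [K', hK, Matrix.mul_assoc]
      rw [hmat]
      refine ⟨⟨fun i => ?_, fun i b hb => ?_⟩, fun i b hib hb n hn => ?_⟩
      · rw [hNK, hK'tri.1]
        split_ifs with h
        · rw [hK'tri.2 j i h, mul_zero, add_zero]
        · rw [zero_mul, add_zero]
      · rw [hNK, hK'tri.2 i b hb]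
        split_ifs with h
        · rw [hK'tri.2 j b (hb.trans h), mul_zero, add_zero]
        · rw [zero_mul, add_zero]
      · rw [hNK]
        rcases Nat.lt_succ_iff_lt_or_eq.mp hb with h | h
        · rw [hK'tri.2 j b h, mul_zero, add_zero, hK'o i b (fun e => by subst e; simp [j] at h)]
          exact hred.2 i b hib h n hn
        · obtain rfl : b = j := Fin.ext h
          rw [if_pos hib, hK'tri.1]
          rcases le_or_gt (e j) n with hle | hlt
          · exact hd i n hle
          · rcases hn with hn | ⟨q, hq, hn1, hn2⟩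
            · omega
            rw [map_add, coeff_mul_X_pow', if_neg (by omega), add_zero, hK'j]
            exact hc i hib q hq n hn1 hn2

theorem exists_red (M : Matrix (Fin r) (Fin r) (PowerSeries k)) (hM : M.det ≠ 0) (p : Option ℕ) :
    ∃ (N P : Matrix (Fin r) (Fin r) (PowerSeries k)) (e : Fin r → ℕ), IsUnit N ∧ IsUnit P ∧ (p = none → P = 1) ∧
      (∀ q ∈ p, ∀ a b n, ¬ q ∣ n → coeff n (P a b) = 0) ∧ Tri e (N * M * P) ∧
      ∀ i j, i < j → ∀ n, (e j ≤ n ∨ ∃ q ∈ p, e i ≤ n ∧ n % q = e i % q) → coeff n ((N * M * P) i j) = 0 := by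
  obtain ⟨e, N₀, hN₀, hT⟩ := exists_tri M hM
  obtain ⟨N, P, hN, hP, h1, h2, h3, h4⟩ := exists_redBelow p e (N₀ * M) hT r
  refine ⟨N * N₀, P, e, hN.mul hN₀, hP, h1, h2, ?_, fun i j hij n hn => ?_⟩
  · rwa [Matrix.mul_assoc N N₀ M]
  · rw [Matrix.mul_assoc N N₀ M]; exact h4 i j hij j.2 n hn

theorem existsUnique_red (M : Matrix (Fin r) (Fin r) (PowerSeries k)) (hM : M.det ≠ 0) :
    ∃! H : Matrix (Fin r) (Fin r) (PowerSeries k),
      (∃ e : Fin r → ℕ, (∀ i, H i i = X ^ e i) ∧ (∀ i j, j < i → H i j = 0) ∧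
        (∀ i j, i < j → ∀ n, e j ≤ n → coeff n (H i j) = 0)) ∧
      ∃ N : Matrix (Fin r) (Fin r) (PowerSeries k), IsUnit N ∧ N * M = H := by
  obtain ⟨N, P, e, hN, -, hP, -, hT, hR⟩ := exists_red M hM none
  obtain rfl := hP rfl
  rw [Matrix.mul_one] at hT hR
  refine ⟨N * M, ⟨⟨e, hT.1, hT.2, fun i j h n hn => hR i j h n (Or.inl hn)⟩, N, hN, rfl⟩, ?_⟩
  rintro H' ⟨⟨e', h1, h2, h3⟩, N', hN', rfl⟩
  obtain ⟨u, rfl⟩ := hN
  obtain ⟨u', rfl⟩ := hN'
  refine red_unique (e := e') (e' := e) ⟨⟨h1, h2⟩, h3⟩ ⟨hT, fun i j h n hn => hR i j h n (Or.inl hn)⟩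
    ((u : Matrix (Fin r) (Fin r) (PowerSeries k)) * (u'⁻¹).val)
    ((u' : Matrix (Fin r) (Fin r) (PowerSeries k)) * (u⁻¹).val) ?_ ?_ <;>
  · simp [Matrix.mul_assoc]

end Groth.Agent.H27Misc.RowRed
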