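import Mathlib

/-!
# Swap invariant elements of powers of the diagonal ideal
-/

set_option autoImplicit false
universe u

open TensorProduct
open scoped Pointwise

namespace Groth.Agent.H27Misc

theorem comap_pow_four {k R : Type u} [Field k] [NeZero (2 : k)] [CommRing R] [Algebra k R] :
    Ideal.comap
        (AlgHom.equalizer ((Algebra.TensorProduct.comm k R R : R ⊗[k] R ≃ₐ[k] R ⊗[k] R) : R ⊗[k] R →ₐ[k] R ⊗[k] R)
          (AlgHom.id k (R ⊗[k] R))).val
        (KaehlerDifferential.ideal k R ^ 4) =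
      (Ideal.comap
        (AlgHom.equalizer ((Algebra.TensorProduct.comm k R R : R ⊗[k] R ≃ₐ[k] R ⊗[k] R) : R ⊗[k] R →ₐ[k] R ⊗[k] R)
          (AlgHom.id k (R ⊗[k] R))).val
        (KaehlerDifferential.ideal k R ^ 2)) ^ 2 := by
  set τ : R ⊗[k] R →ₐ[k] R ⊗[k] R :=
    ((Algebra.TensorProduct.comm k R R : R ⊗[k] R ≃ₐ[k] R ⊗[k] R) : R ⊗[k] R →ₐ[k] R ⊗[k] R)
  set S := AlgHom.equalizer τ (AlgHom.id k (R ⊗[k] R))
  set I := KaehlerDifferential.ideal k R
  refine le_antisymm ?_ ?_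
  swap
  · rw [pow_two (Ideal.comap S.val (I ^ 2)), show 4 = 2 + 2 from rfl, pow_add]
    exact Ideal.mul_le.mpr fun x hx y hy => by
      rw [Ideal.mem_comap, map_mul]; exact Ideal.mul_mem_mul hx hy
  have hτ : ∀ x, τ (τ x) = x := by
    intro x
    induction x using TensorProduct.induction_on with
    | zero => simp
    | tmul a b => rfl
    | add x y hx hy => rw [map_add, map_add, hx, hy]
  let J := Ideal.comap S.val (I ^ 2)
  let D : Set (R ⊗[k] R) := Set.range fun s : R => (1 : R) ⊗ₜ[k] s - s ⊗ₜ[k] (1 : R)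
  have hI : I = Ideal.span D := (KaehlerDifferential.span_range_eq_ideal k R).symm
  have hD : ∀ d ∈ D, τ d = -d ∧ d ∈ I := by
    rintro _ ⟨s, rfl⟩
    refine ⟨?_, hI ▸ Ideal.subset_span ⟨s, rfl⟩⟩
    simp [τ]
  have hDD : ∀ g ∈ D * D, ∃ z : S, z ∈ J ∧ (z : R ⊗[k] R) = g := by
    rintro _ ⟨a, ha, b, hb, rfl⟩
    have : a * b ∈ S := by
      show τ (a * b) = a * b
      rw [map_mul, (hD a ha).1, (hD b hb).1, neg_mul_neg]
    refine ⟨⟨a * b, this⟩, ?_, rfl⟩
    show a * b ∈ I ^ 2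
    rw [pow_two]
    exact Ideal.mul_mem_mul (hD a ha).2 (hD b hb).2
  let Q : Ideal (R ⊗[k] R) :=
    { carrier := {x | ∀ r, ∃ z : S, z ∈ J ^ 2 ∧ (z : R ⊗[k] R) = r * x + τ (r * x)}
      zero_mem' := fun r => ⟨0, zero_mem _, by simp⟩
      add_mem' := fun {x y} hx hy r => by
        obtain ⟨z, hz, hz'⟩ := hx r
        obtain ⟨w, hw, hw'⟩ := hy r
        refine ⟨z + w, add_mem hz hw, ?_⟩
        rw [mul_add, map_add, AddMemClass.coe_add, hz', hw']
        abel
      smul_mem' := fun c x hx r => by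
        obtain ⟨z, hz, hz'⟩ := hx (r * c)
        exact ⟨z, hz, by rw [hz', smul_eq_mul, mul_assoc]⟩ }
  have hQ : I ^ 4 ≤ Q := by
    rw [show 4 = 2 + 2 from rfl, pow_add, pow_two, hI, Ideal.span_mul_span', Ideal.span_mul_span',
      Ideal.span_le]
    rintro _ ⟨g, hg, h, hh, rfl⟩ r
    obtain ⟨zg, hzg, hzg'⟩ := hDD g hg
    obtain ⟨zh, hzh, hzh'⟩ := hDD h hh
    have hr : r + τ r ∈ S := by
      show τ (r + τ r) = r + τ r
      rw [map_add, hτ, add_comm]
    refine ⟨⟨r + τ r, hr⟩ * (zg * zh), ?_, ?_⟩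
    · rw [pow_two]
      exact Ideal.mul_mem_left _ _ (Ideal.mul_mem_mul hzg hzh)
    · rw [MulMemClass.coe_mul, MulMemClass.coe_mul, hzg', hzh', map_mul, map_mul,
        show τ g = g from (hzg' ▸ zg.2 : τ g = g), show τ h = h from (hzh' ▸ zh.2 : τ h = h), add_mul]
  intro x hx
  obtain ⟨z, hz, hz'⟩ := hQ (show (x : R ⊗[k] R) ∈ I ^ 4 from hx) 1
  have hxz : x = (2 : k)⁻¹ • z := by
    apply Subtype.ext
    rw [SetLike.val_smul, hz', one_mul, show τ x = x from x.2, ← two_smul k, smul_smul,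
      inv_mul_cancel₀ (NeZero.ne _), one_smul]
  rw [hxz, Algebra.smul_def]
  exact Ideal.mul_mem_left _ _ hz

end Groth.Agent.H27Misc
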