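import Groth.Agent.H22Alg.PolLawFlat
import Groth.Agent.H8Props.FlatKernel
import Mathlib

/-!
# Symmetric tensors of flat modules
-/

set_option autoImplicit false
set_option linter.style.haveILetI false
universe u

noncomputable section

open scoped TensorProduct
open MvPolynomial Groth.Agent.H22Alg.PL

namespace Groth.Agent.H27Misc.SymTenFlat

/-- The permutation invariant tensors of degree `n`. -/
abbrev inv (R : Type u) [CommRing R] (M : Type u) [AddCommGroup M] [Module R M] (n : ℕ) :
    Submodule R (⨂[R] _ : Fin n, M) :=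
  ⨅ σ : Equiv.Perm (Fin n),
    LinearMap.eqLocus (PiTensorProduct.reindex R (fun _ : Fin n => M) σ).toLinearMap LinearMap.id

theorem mem_inv {R : Type u} [CommRing R] {M : Type u} [AddCommGroup M] [Module R M] {n : ℕ}
    (t : ⨂[R] _ : Fin n, M) :
    t ∈ inv R M n ↔ ∀ σ : Equiv.Perm (Fin n), PiTensorProduct.reindex R (fun _ : Fin n => M) σ t = t := by
  simp [inv, Submodule.mem_iInf]

/-- The map induced on invariant tensors. -/
def invMap {R : Type u} [CommRing R] {M N : Type u} [AddCommGroup M] [Module R M] [AddCommGroup N] [Module R N]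
    (n : ℕ) (h : M →ₗ[R] N) : inv R M n →ₗ[R] inv R N n :=
  LinearMap.codRestrict _ ((PiTensorProduct.map fun _ : Fin n => h).comp (inv R M n).subtype) fun x =>
    (mem_inv _).mpr fun σ => by
      rw [LinearMap.comp_apply, Submodule.subtype_apply, map_invariant, (mem_inv _).mp x.2 σ]

variable {A : Type u} [CommRing A] {B : Type u} [CommRing B] [Algebra A B] [Module.Flat A B] {d : ℕ}

omit [Module.Flat A B] in
theorem exists_preimage (π : MvPolynomial B A →ₗ[A] B) (hπ : Function.Surjective π) (z : ⨂[A] _ : Fin d, B) :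
    ∃ t, PiTensorProduct.map (fun _ : Fin d => π) t = z := by
  induction z using PiTensorProduct.induction_on with
  | smul_tprod r f =>
    exact ⟨r • PiTensorProduct.tprod A (fun i => Function.surjInv hπ (f i)), by
      simp [Function.surjInv_eq hπ]⟩
  | add x y hx hy => obtain ⟨a, rfl⟩ := hx; obtain ⟨b, rfl⟩ := hy; exact ⟨a + b, map_add _ _ _⟩

/-- Finitely many invariant tensors lift to invariant tensors of a free module, with any given relation. -/
theorem exists_free_lift {l : ℕ} (x : Fin l → inv A B d) (a : Fin l → A) (ha : ∑ i, a i • x i = 0) :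
    ∃ (σ : Type u) (π' : MvPolynomial σ A →ₗ[A] B) (y : Fin l → inv A (MvPolynomial σ A) d),
      (∀ i, invMap d π' (y i) = x i) ∧ ∑ i, a i • y i = 0 := by
  classical
  let π : MvPolynomial B A →ₐ[A] B := aeval (id : B → B)
  have hπ : Function.Surjective π := fun b => ⟨X b, aeval_X _ b⟩
  let e := basisMonomials B A
  choose t ht using fun i => exists_preimage π.toLinearMap hπ (x i : ⨂[A] _ : Fin d, B)
  let T := insert (∑ i, a i • t i) ((Finset.univ : Finset (Equiv.Perm (Fin d) × Fin l)).image fun q =>
    PiTensorProduct.reindex A (fun _ : Fin d => MvPolynomial B A) q.1 (t q.2) - t q.2)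
  obtain ⟨σ, π', h, -, hh, hk⟩ := exists_kill e π.toLinearMap hπ T (fun w hw => by
    rcases Finset.mem_insert.mp hw with rfl | hw
    · have h0 := congrArg Subtype.val ha
      simp only [Submodule.coe_sum, Submodule.coe_smul, Submodule.coe_zero] at h0
      simp only [map_sum, map_smul, ht]
      exact h0
    · obtain ⟨q, -, rfl⟩ := Finset.mem_image.mp hw
      rw [map_sub, ← map_invariant, ht, (mem_inv _).mp (x q.2).2 q.1, sub_self])
  let y : Fin l → inv A (MvPolynomial σ A) d := fun i => ⟨PiTensorProduct.map (fun _ : Fin d => h) (t i),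
    (mem_inv _).mpr fun τ => by
      rw [map_invariant, ← sub_eq_zero, ← map_sub]
      exact hk _ (Finset.mem_insert_of_mem (Finset.mem_image.mpr ⟨(τ, i), Finset.mem_univ _, rfl⟩))⟩
  refine ⟨σ, π'.toLinearMap, y, fun i => Subtype.ext ?_, Subtype.ext ?_⟩
  · show PiTensorProduct.map (fun _ : Fin d => π'.toLinearMap) (PiTensorProduct.map (fun _ : Fin d => h) (t i)) = _
    rw [← LinearMap.comp_apply, ← PiTensorProduct.map_comp, ← ht i]
    exact congrArg (fun g : MvPolynomial B A →ₗ[A] B => PiTensorProduct.map (fun _ : Fin d => g) (t i)) hh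
  · simp only [Submodule.coe_sum, Submodule.coe_smul, Submodule.coe_zero, y]
    rw [← hk _ (Finset.mem_insert_self _ _)]
    simp only [map_sum, map_smul]

omit [CommRing B] [Algebra A B] [Module.Flat A B] in
theorem flat_inv_poly (σ : Type u) : Module.Flat A (inv A (MvPolynomial σ A) d) := by
  have h := flat_TS_of_free (d := d) (basisMonomials σ A)
  have he : inv A (MvPolynomial σ A) d = Subalgebra.toSubmodule (SymTen.TS A (MvPolynomial σ A) d) := by
    ext t
    rw [mem_inv]
    rfl
  exact Module.Flat.of_linearEquiv (M := SymTen.TS A (MvPolynomial σ A) d)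
    { toFun := fun z => ⟨z.1, (SetLike.ext_iff.mp he z.1).mp z.2⟩
      invFun := fun z => ⟨z.1, (SetLike.ext_iff.mp he z.1).mpr z.2⟩
      map_add' := fun _ _ => rfl
      map_smul' := fun _ _ => rfl
      left_inv := fun _ => rfl
      right_inv := fun _ => rfl }

theorem flat_inv_algebra : Module.Flat A (inv A B d) := by
  classical
  refine Module.Flat.of_forall_exists_factorization fun {l f x} hxf => ?_
  obtain ⟨σ, π', y, hy, hy0⟩ := exists_free_lift (fun i => x (Finsupp.single i 1)) f (by
    rw [← hxf]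
    simp only [← map_smul, ← map_sum, Finsupp.smul_single, smul_eq_mul, mul_one, Finsupp.univ_sum_single])
  let X' : (Fin l →₀ A) →ₗ[A] inv A (MvPolynomial σ A) d := Finsupp.linearCombination A y
  have hX' : X' f = 0 := by
    rw [← hy0]
    simp only [X', Finsupp.linearCombination_apply]
    exact Finsupp.sum_fintype f (fun i c => c • y i) (fun i => zero_smul A _)
  haveI := flat_inv_poly (A := A) (d := d) σ
  obtain ⟨k, a, z, hxz, haf⟩ := Module.Flat.exists_factorization_of_apply_eq_zero_of_free (M := inv A (MvPolynomial σ A) d) hX'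
  refine ⟨k, a, (invMap d π') ∘ₗ z, ?_, haf⟩
  rw [LinearMap.comp_assoc, ← hxz]
  refine Finsupp.lhom_ext fun i c => ?_
  rw [show Finsupp.single i c = c • Finsupp.single i (1 : A) from (Finsupp.smul_single_one i c).symm,
    map_smul, map_smul, ← hy i]
  simp [X']

section Module

theorem flat_inv (R : Type u) [CommRing R] (M : Type u) [AddCommGroup M] [Module R M] [Module.Flat R M] (n : ℕ) :
    Module.Flat R (inv R M n) := by
  letI : Module Rᵐᵒᵖ M := Module.compHom M ((RingHom.id R).fromOpposite mul_comm)
  haveI : IsCentralScalar R M := ⟨fun _ _ => rfl⟩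
  haveI : Module.Flat R (R × M) := H8Props.flat_prod
  haveI : Module.Flat R (TrivSqZeroExt R M) := ‹Module.Flat R (R × M)›
  haveI := flat_inv_algebra (A := R) (B := TrivSqZeroExt R M) (d := n)
  let i : M →ₗ[R] TrivSqZeroExt R M := TrivSqZeroExt.inrHom R M
  let r : TrivSqZeroExt R M →ₗ[R] M := TrivSqZeroExt.sndHom R M
  refine Module.Flat.of_retract (invMap n i) (invMap n r) (LinearMap.ext fun x => Subtype.ext ?_)
  show PiTensorProduct.map (fun _ : Fin n => r) (PiTensorProduct.map (fun _ : Fin n => i) x.1) = x.1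
  rw [← LinearMap.comp_apply, ← PiTensorProduct.map_comp]
  rw [show (fun _ : Fin n => r ∘ₗ i) = fun _ => LinearMap.id from funext fun _ => LinearMap.ext fun _ => rfl,
    PiTensorProduct.map_id]
  rfl

theorem exists_symmetric_lift (R : Type u) [CommRing R] (M N : Type u) [AddCommGroup M] [Module R M]
    [AddCommGroup N] [Module R N] [Module.Flat R N] (f : M →ₗ[R] N) (hf : Function.Surjective f) (n : ℕ)
    (t : ⨂[R] _ : Fin n, N) (ht : ∀ σ : Equiv.Perm (Fin n), PiTensorProduct.reindex R (fun _ : Fin n => N) σ t = t) :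
    ∃ s : ⨂[R] _ : Fin n, M, (∀ σ : Equiv.Perm (Fin n), PiTensorProduct.reindex R (fun _ : Fin n => M) σ s = s) ∧
      PiTensorProduct.map (fun _ : Fin n => f) s = t := by
  classical
  letI : Module Rᵐᵒᵖ N := Module.compHom N ((RingHom.id R).fromOpposite mul_comm)
  haveI : IsCentralScalar R N := ⟨fun _ _ => rfl⟩
  haveI : Module.Flat R (R × N) := H8Props.flat_prod
  haveI : Module.Flat R (TrivSqZeroExt R N) := ‹Module.Flat R (R × N)›
  let i : N →ₗ[R] TrivSqZeroExt R N := TrivSqZeroExt.inrHom R N
  let r : TrivSqZeroExt R N →ₗ[R] N := TrivSqZeroExt.sndHom R N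
  obtain ⟨σ, π', y, hy, -⟩ := exists_free_lift (A := R) (B := TrivSqZeroExt R N) (d := n)
    (fun _ : Fin 1 => invMap n i ⟨t, (mem_inv t).mpr ht⟩) 0 (by simp)
  choose g hg using fun m => hf (r (π' (basisMonomials σ R m)))
  let G : MvPolynomial σ R →ₗ[R] M := (basisMonomials σ R).constr R g
  have hG : f ∘ₗ G = r ∘ₗ π' := (basisMonomials σ R).ext fun m => by
    simp only [LinearMap.comp_apply, G, Module.Basis.constr_basis, hg]
  let s := invMap n G (y 0)
  refine ⟨s.1, (mem_inv _).mp s.2, ?_⟩
  have h0 : PiTensorProduct.map (fun _ : Fin n => π') (y 0).1 = PiTensorProduct.map (fun _ : Fin n => i) t :=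
    congrArg Subtype.val (hy 0)
  show PiTensorProduct.map (fun _ : Fin n => f) (PiTensorProduct.map (fun _ : Fin n => G) (y 0).1) = t
  rw [← LinearMap.comp_apply, ← PiTensorProduct.map_comp]
  simp only [hG]
  rw [PiTensorProduct.map_comp, LinearMap.comp_apply, h0, ← LinearMap.comp_apply, ← PiTensorProduct.map_comp,
    show (fun _ : Fin n => r ∘ₗ i) = fun _ => LinearMap.id from funext fun _ => LinearMap.ext fun _ => rfl,
    PiTensorProduct.map_id]
  rfl

end Module

end Groth.Agent.H27Misc.SymTenFlat
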