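import Groth.Agent.H27Misc.SymTenFlat
import Mathlib

/-! # Elementary symmetric tensors generate the symmetric tensors of a flat algebra -/

set_option autoImplicit false
set_option linter.unusedSectionVars false

noncomputable section

universe u

open scoped TensorProduct

namespace Groth.Agent.H27Misc.SymTenGen

variable {R : Type u} [CommRing R] {A : Type u} [CommRing A] [Algebra R A] {n : ℕ}

/-- The elementary symmetric tensor. -/
def sigma (a : A) (j : ℕ) : ⨂[R] _ : Fin n, A :=
  ∑ I ∈ (Finset.univ : Finset (Fin n)).powersetCard j,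
    PiTensorProduct.tprod R (fun i : Fin n => if i ∈ I then a else (1 : A))

/-- The pure tensor of a labelling. -/
def lt' {κ : Type u} (b : κ → A) (h : Fin n → Option κ) : ⨂[R] _ : Fin n, A :=
  PiTensorProduct.tprod R fun x => (h x).elim 1 b

/-- The support of a labelling. -/
def supp {κ : Type u} (h : Fin n → Option κ) : Finset (Fin n) := Finset.univ.filter fun x => (h x).isSome

theorem supp_comp_card {κ : Type u} (h : Fin n → Option κ) (σ : Equiv.Perm (Fin n)) :
    (supp (h ∘ σ)).card = (supp h).card := by
  refine Finset.card_equiv σ fun x => ?_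
  simp [supp]

open scoped Classical in
/-- The orbit of a labelling. -/
def orbit {κ : Type*} (h : Fin n → κ) : Finset (Fin n → κ) :=
  (Finset.univ : Finset (Equiv.Perm (Fin n))).image fun σ => h ∘ σ

theorem mem_orbit {κ : Type*} {h g : Fin n → κ} : g ∈ orbit h ↔ ∃ σ : Equiv.Perm (Fin n), h ∘ σ = g := by
  simp [orbit]

theorem self_mem_orbit {κ : Type*} (h : Fin n → κ) : h ∈ orbit h :=
  mem_orbit.mpr ⟨Equiv.refl _, rfl⟩

theorem orbit_invariant {κ : Type*} {h g : Fin n → κ} (σ : Equiv.Perm (Fin n)) (hg : g ∈ orbit h) :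
    g ∘ σ ∈ orbit h := by
  obtain ⟨τ, rfl⟩ := mem_orbit.mp hg
  exact mem_orbit.mpr ⟨σ.trans τ, rfl⟩

theorem sdiff_orbit_invariant {κ : Type*} [DecidableEq (Fin n → κ)] {Z : Finset (Fin n → κ)}
    (hZ : ∀ σ : Equiv.Perm (Fin n), ∀ g ∈ Z, g ∘ σ ∈ Z) (h : Fin n → κ) (σ : Equiv.Perm (Fin n))
    (g : Fin n → κ) (hg : g ∈ Z \ orbit h) : g ∘ σ ∈ Z \ orbit h := by
  rw [Finset.mem_sdiff] at hg ⊢
  refine ⟨hZ σ g hg.1, fun h' => hg.2 ?_⟩
  have := orbit_invariant σ.symm h'
  rwa [Function.comp_assoc, Equiv.self_comp_symm, Function.comp_id] at this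

theorem mem_orbit_of_card {κ : Type*} [DecidableEq κ] {h g : Fin n → κ}
    (hc : ∀ c, (Finset.univ.filter fun x => g x = c).card = (Finset.univ.filter fun x => h x = c).card) :
    g ∈ orbit h := by
  have e : ∀ c, { x // g x = c } ≃ { x // h x = c } := fun c =>
    Fintype.equivOfCardEq (by rw [Fintype.card_subtype, Fintype.card_subtype, hc])
  exact mem_orbit.mpr ⟨Equiv.ofFiberEquiv e, funext fun x => Equiv.ofFiberEquiv_map e x⟩

theorem orbit_card_eq {κ : Type*} [DecidableEq κ] {h g : Fin n → κ} (hg : g ∈ orbit h) (c : κ) :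
    (Finset.univ.filter fun x => g x = c).card = (Finset.univ.filter fun x => h x = c).card := by
  obtain ⟨σ, rfl⟩ := mem_orbit.mp hg
  refine Finset.card_equiv σ fun x => ?_
  simp

variable (R A n) in
/-- The target subalgebra. -/
def S : Subalgebra R (⨂[R] _ : Fin n, A) :=
  Algebra.adjoin R {t : ⨂[R] _ : Fin n, A | ∃ (a : A) (j : ℕ), t = sigma a j}

theorem sum_mem (N : ℕ) :
    ∀ (κ : Type u) (b : κ → A) (Z : Finset (Fin n → Option κ)),
      (∀ σ : Equiv.Perm (Fin n), ∀ g ∈ Z, g ∘ σ ∈ Z) → (∀ g ∈ Z, (supp g).card ≤ N) →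
      ∑ h ∈ Z, lt' (R := R) b h ∈ S R A n := by
  induction N using Nat.strong_induction_on with
  | _ N IH =>
  classical
  suffices horb : ∀ (κ : Type u) (b : κ → A) (f : Fin n → Option κ), (supp f).card ≤ N →
      ∑ h ∈ orbit f, lt' (R := R) b h ∈ S R A n by
    intro κ b Z
    induction Z using Finset.strongInduction with
    | H Z ihZ =>
      intro hZ hN
      rcases Z.eq_empty_or_nonempty with rfl | ⟨f, hf⟩
      · simp
      have hsub : orbit f ⊆ Z := fun g hg => by
        obtain ⟨σ, rfl⟩ := mem_orbit.mp hg
        exact hZ σ f hf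
      rw [← Finset.sum_sdiff hsub]
      refine add_mem (ihZ _ ?_ (fun σ g hg => sdiff_orbit_invariant hZ f σ g hg)
        (fun g hg => hN g (Finset.mem_sdiff.mp hg).1)) (horb κ b f (hN f hf))
      exact Finset.sdiff_ssubset hsub ⟨f, self_mem_orbit f⟩
  intro κ b f hf
  by_cases hf0 : supp f = ∅
  · have hnone : ∀ x, f x = none := fun x => by
      by_contra hx
      have : x ∈ supp f := by simp [supp, Option.isSome_iff_ne_none, hx]
      rw [hf0] at this
      exact absurd this (Finset.notMem_empty x)
    have : orbit f = {f} := by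
      ext g
      rw [Finset.mem_singleton, mem_orbit]
      refine ⟨fun ⟨σ, hσ⟩ => hσ ▸ funext fun x => by simp [hnone], fun h => ⟨Equiv.refl _, h.symm⟩⟩
    rw [this, Finset.sum_singleton, lt']
    simp only [hnone, Option.elim_none]
    exact one_mem _
  obtain ⟨x0, hx0⟩ := Finset.nonempty_iff_ne_empty.mpr hf0
  obtain ⟨i, hi⟩ := Option.isSome_iff_exists.mp (Finset.mem_filter.mp hx0).2
  let fm : Fin n → Option κ := fun x => if f x = some i then none else f x
  let I0 := Finset.univ.filter fun x => f x = some i
  have hI0 : 0 < I0.card := Finset.card_pos.mpr ⟨x0, by simp [I0, hi]⟩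
  have hsuppf : (supp f).card = I0.card + (supp fm).card := by
    rw [← Finset.card_union_of_disjoint]
    · congr 1
      ext x
      by_cases h : f x = some i <;> simp [supp, I0, fm, h]
    · rw [Finset.disjoint_left]
      intro x h1 h2
      simp [I0] at h1
      simp [supp, fm, h1] at h2
  have hfm : ∑ h ∈ orbit fm, lt' (R := R) b h ∈ S R A n := by
    refine IH (supp fm).card (by omega) κ b (orbit fm) (fun σ g hg => orbit_invariant σ hg) fun g hg => ?_
    obtain ⟨σ, rfl⟩ := mem_orbit.mp hg
    exact (supp_comp_card fm σ).le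
  let P := (Finset.univ : Finset (Fin n)).powersetCard I0.card ×ˢ orbit fm
  let lab : Finset (Fin n) × (Fin n → Option κ) → Fin n → Option (Bool × Option κ) := fun q x =>
    if x ∈ q.1 ∨ (q.2 x).isSome then some (decide (x ∈ q.1), q.2 x) else none
  let b' : Bool × Option κ → A := fun c => (if c.1 then b i else 1) * c.2.elim 1 b
  have hlabinj : Set.InjOn lab P := by
    intro q _ q' _ e
    have h1 : ∀ x, (x ∈ q.1 ↔ x ∈ q'.1) ∧ q.2 x = q'.2 x := fun x => by
      have := congrFun e x
      simp only [lab] at this
      by_cases hc : x ∈ q.1 ∨ (q.2 x).isSome <;> by_cases hc' : x ∈ q'.1 ∨ (q'.2 x).isSome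
      · simp only [if_pos hc, if_pos hc', Option.some.injEq, Prod.mk.injEq, decide_eq_decide] at this
        exact this
      · simp [if_pos hc, if_neg hc'] at this
      · simp [if_neg hc, if_pos hc'] at this
      · simp only [not_or, Option.not_isSome_iff_eq_none] at hc hc'
        exact ⟨iff_of_false hc.1 hc'.1, by rw [hc.2, hc'.2]⟩
    exact Prod.ext (Finset.ext fun x => (h1 x).1) (funext fun x => (h1 x).2)
  have hprod : sigma (b i) I0.card * ∑ h ∈ orbit fm, lt' (R := R) b h = ∑ q ∈ P, lt' (R := R) b' (lab q) := by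
    rw [sigma, Finset.sum_mul_sum, ← Finset.sum_product']
    refine Finset.sum_congr rfl fun q _ => ?_
    rw [lt', lt', PiTensorProduct.tprod_mul_tprod]
    congr 1
    funext x
    rw [Pi.mul_apply]
    by_cases h1 : x ∈ q.1
    · simp [lab, b', h1]
    · cases h2 : q.2 x <;> simp [lab, b', h1, h2]
  let disj : Finset (Fin n) × (Fin n → Option κ) → Prop := fun q => ∀ x ∈ q.1, q.2 x = none
  have hdisjinv : ∀ (σ : Equiv.Perm (Fin n)) q,
      disj (q.1.image σ.symm, q.2 ∘ σ) ↔ disj q := by
    intro σ q
    simp [disj]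
  have hlabσ : ∀ (σ : Equiv.Perm (Fin n)) q, lab q ∘ σ = lab (q.1.image σ.symm, q.2 ∘ σ) := by
    intro σ q
    funext x
    have hx : x ∈ q.1.image σ.symm ↔ σ x ∈ q.1 := by
      simp only [Finset.mem_image]
      exact ⟨fun ⟨y, hy, e⟩ => by rw [← e]; simpa using hy, fun h => ⟨σ x, h, by simp⟩⟩
    simp [lab, hx]
  have hPσ : ∀ (σ : Equiv.Perm (Fin n)) q, q ∈ P → (q.1.image σ.symm, q.2 ∘ σ) ∈ P := by
    intro σ q hq
    rw [Finset.mem_product, Finset.mem_powersetCard] at hq ⊢
    exact ⟨⟨Finset.subset_univ _, by rw [Finset.card_image_of_injective _ σ.symm.injective]; exact hq.1.2⟩,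
      orbit_invariant σ hq.2⟩
  -- the overlapping part
  have hover : ∑ q ∈ P.filter fun q => ¬ disj q, lt' (R := R) b' (lab q) ∈ S R A n := by
    rw [← Finset.sum_image (f := fun h => lt' (R := R) b' h) (g := lab)
      (hlabinj.mono (Finset.coe_subset.mpr (Finset.filter_subset _ _)))]
    refine IH ((supp f).card - 1) (by omega) _ b' _ (fun σ g hg => ?_) fun g hg => ?_
    · obtain ⟨q, hq, rfl⟩ := Finset.mem_image.mp hg
      rw [Finset.mem_filter] at hq
      rw [hlabσ]
      exact Finset.mem_image_of_mem _ (Finset.mem_filter.mpr ⟨hPσ σ q hq.1, mt (hdisjinv σ q).mp hq.2⟩)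
    · obtain ⟨q, hq, rfl⟩ := Finset.mem_image.mp hg
      rw [Finset.mem_filter, Finset.mem_product, Finset.mem_powersetCard] at hq
      obtain ⟨⟨⟨-, hq1⟩, hq2⟩, hq3⟩ := hq
      obtain ⟨σ, hσ⟩ := mem_orbit.mp hq2
      have hs : supp (lab q) = q.1 ∪ supp q.2 := by
        ext x
        by_cases hc : x ∈ q.1 ∨ (q.2 x).isSome <;> simp [supp, lab, hc]
      have hint : (q.1 ∩ supp q.2).Nonempty := by
        simp only [disj, not_forall] at hq3
        obtain ⟨x, hx, hx'⟩ := hq3
        exact ⟨x, Finset.mem_inter.mpr ⟨hx, by simpa [supp, Option.isSome_iff_ne_none] using hx'⟩⟩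
      have h1 := Finset.card_union_add_card_inter q.1 (supp q.2)
      have h2 := Finset.card_pos.mpr hint
      have h3 : (supp q.2).card = (supp fm).card := by rw [← hσ]; exact supp_comp_card fm σ
      rw [hs]
      omega
  -- the disjoint part
  have hfilt : ∀ (g : Fin n → Option κ) (c : κ), c ≠ i →
      (Finset.univ.filter fun x => (if g x = some i then none else g x) = some c) =
        Finset.univ.filter fun x => g x = some c := by
    intro g c hc
    ext x
    by_cases h : g x = some i <;> simp [h, Ne.symm hc]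
  have hnoi : ∀ h ∈ orbit fm, ∀ x, h x ≠ some i := by
    intro h hh x
    obtain ⟨σ, rfl⟩ := mem_orbit.mp hh
    by_cases hc : f (σ x) = some i <;> simp [fm, hc]
  have hdis : ∑ q ∈ P.filter disj, lt' (R := R) b' (lab q) = ∑ g ∈ orbit f, lt' (R := R) b g := by
    refine Finset.sum_bij' (fun q _ x => if x ∈ q.1 then some i else q.2 x)
      (fun g _ => (Finset.univ.filter fun x => g x = some i, fun x => if g x = some i then none else g x))
      ?_ ?_ ?_ ?_ ?_
    · intro q hq
      rw [Finset.mem_filter, Finset.mem_product, Finset.mem_powersetCard] at hq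
      obtain ⟨⟨⟨-, hq1⟩, hq2⟩, hq3⟩ := hq
      refine mem_orbit_of_card fun c => ?_
      have hfib : ∀ c : κ, c ≠ i → (Finset.univ.filter fun x => (if x ∈ q.1 then some i else q.2 x) = some c).card =
          (Finset.univ.filter fun x => f x = some c).card := by
        intro c hc
        rw [← hfilt f c hc]
        refine Eq.trans ?_ (orbit_card_eq hq2 (some c))
        congr 1
        ext x
        by_cases hx : x ∈ q.1
        · simp [hx, hq3 x hx, Ne.symm hc]
        · simp [hx]
      rcases c with - | c
      · have hsplit : (Finset.univ.filter fun x => (if x ∈ q.1 then some i else q.2 x) = none).card + q.1.card =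
            (Finset.univ.filter fun x => q.2 x = none).card := by
          rw [← Finset.card_union_of_disjoint]
          · congr 1
            ext x
            by_cases hx : x ∈ q.1
            · simp [hx, hq3 x hx]
            · simp [hx]
          · rw [Finset.disjoint_left]
            intro x h1 h2
            simp [h2] at h1
        have hsplit' : (Finset.univ.filter fun x => f x = none).card + I0.card =
            (Finset.univ.filter fun x => fm x = none).card := by
          rw [← Finset.card_union_of_disjoint]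
          · congr 1
            ext x
            by_cases hx : f x = some i <;> simp [fm, I0, hx]
          · rw [Finset.disjoint_left]
            intro x h1 h2
            simp [I0] at h1 h2
            simp [h1] at h2
        have := orbit_card_eq hq2 none
        omega
      · by_cases hc : c = i
        · subst hc
          refine Eq.trans ?_ hq1
          congr 1
          ext x
          by_cases hx : x ∈ q.1
          · simp [hx]
          · simpa [hx] using hnoi q.2 hq2 x
        · exact hfib c hc
    · intro g hg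
      obtain ⟨σ, rfl⟩ := mem_orbit.mp hg
      rw [Finset.mem_filter, Finset.mem_product, Finset.mem_powersetCard]
      refine ⟨⟨⟨Finset.subset_univ _, orbit_card_eq hg (some i)⟩, mem_orbit.mpr ⟨σ, rfl⟩⟩, ?_⟩
      intro x hx
      rw [Finset.mem_filter] at hx
      simp only [Function.comp_apply] at hx ⊢
      rw [if_pos hx.2]
    · intro q hq
      rw [Finset.mem_filter, Finset.mem_product] at hq
      refine Prod.ext (Finset.ext fun x => ?_) (funext fun x => ?_)
      · by_cases hx : x ∈ q.1
        · simp [hx]
        · simp [hx, hnoi q.2 hq.1.2 x]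
      · by_cases hx : x ∈ q.1
        · simp [hx, hq.2 x hx]
        · simp [hx, hnoi q.2 hq.1.2 x]
    · intro g _
      funext x
      by_cases hx : g x = some i <;> simp [hx]
    · intro q hq
      rw [Finset.mem_filter] at hq
      rw [lt', lt']
      congr 1
      funext x
      by_cases hx : x ∈ q.1
      · simp [lab, b', hx, hq.2 x hx]
      · cases h2 : q.2 x <;> simp [lab, b', hx, h2]
  have htot := Finset.sum_filter_add_sum_filter_not P disj (fun q => lt' (R := R) b' (lab q))
  rw [hdis, ← hprod] at htot
  rw [show ∑ g ∈ orbit f, lt' (R := R) b g = sigma (b i) I0.card * ∑ h ∈ orbit fm, lt' (R := R) b h -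
    ∑ q ∈ P.filter (fun q => ¬ disj q), lt' (R := R) b' (lab q) from eq_sub_of_add_eq htot]
  exact sub_mem (mul_mem (Algebra.subset_adjoin ⟨b i, I0.card, rfl⟩) hfm) hover

theorem sigma_invariant (a : A) (j : ℕ) (σ : Equiv.Perm (Fin n)) :
    PiTensorProduct.reindex R (fun _ : Fin n => A) σ (sigma a j) = sigma a j := by
  classical
  rw [sigma, map_sum]
  refine Finset.sum_equiv (σ.finsetCongr) (fun I => ?_) fun I _ => ?_
  · simp [Finset.mem_powersetCard]
  · rw [PiTensorProduct.reindex_tprod]
    congr 1
    funext x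
    simp

theorem TS_eq [Module.Flat R A] : SymTen.TS R A n = S R A n := by
  classical
  refine le_antisymm (fun t ht => ?_) (Algebra.adjoin_le ?_)
  · obtain ⟨s, hs, hst⟩ := SymTenFlat.exists_symmetric_lift R (A →₀ R) A
      (Finsupp.linearCombination R (id : A → A))
      (fun a => ⟨Finsupp.single a 1, by simp⟩) n t (fun σ => ht σ)
    let e : Module.Basis (Fin n → A) R (⨂[R] _ : Fin n, A →₀ R) :=
      Basis.piTensorProduct fun _ : Fin n => Finsupp.basisSingleOne
    let c := e.repr s
    have hcinv : ∀ (σ : Equiv.Perm (Fin n)) h, c (h ∘ σ) = c h := by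
      intro σ h
      have key : ∀ z : ⨂[R] _ : Fin n, A →₀ R,
          e.repr (PiTensorProduct.reindex R (fun _ : Fin n => A →₀ R) σ z) h = e.repr z (h ∘ σ) := by
        intro z
        induction z using PiTensorProduct.induction_on with
        | smul_tprod r z =>
          rw [map_smul, map_smul, map_smul, Finsupp.smul_apply, Finsupp.smul_apply, PiTensorProduct.reindex_tprod,
            Basis.piTensorProduct_repr_tprod_apply, Basis.piTensorProduct_repr_tprod_apply]
          congr 1
          exact Fintype.prod_equiv σ.symm _ _ fun x => by simp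
        | add x y hx hy => simp only [map_add, Finsupp.add_apply, hx, hy]
      rw [show c (h ∘ σ) = e.repr s (h ∘ σ) from rfl, ← key, hs]
    let fmap : (⨂[R] _ : Fin n, A →₀ R) →ₗ[R] ⨂[R] _ : Fin n, A :=
      PiTensorProduct.map fun _ : Fin n => Finsupp.linearCombination R (id : A → A)
    have hfe : ∀ h : Fin n → A, fmap (e h) = lt' (R := R) (id : A → A) (fun x => some (h x)) := fun h => by
      simp [fmap, e, lt', Basis.piTensorProduct_apply, Finsupp.linearCombination_single]
    suffices ∀ Z : Finset (Fin n → A), (∀ σ : Equiv.Perm (Fin n), ∀ g ∈ Z, g ∘ σ ∈ Z) →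
        ∑ h ∈ Z, c h • fmap (e h) ∈ S R A n by
      have h := this c.support fun σ g hg => by
        rw [Finsupp.mem_support_iff] at hg ⊢
        rwa [hcinv]
      rw [← hst]
      show fmap s ∈ S R A n
      rw [← e.linearCombination_repr s, Finsupp.linearCombination_apply, Finsupp.sum, map_sum]
      simpa [c] using h
    intro Z
    induction Z using Finset.strongInduction with
    | H Z ihZ =>
      intro hZ
      rcases Z.eq_empty_or_nonempty with rfl | ⟨f, hf⟩
      · simp
      have hsub : orbit f ⊆ Z := fun g hg => by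
        obtain ⟨σ, rfl⟩ := mem_orbit.mp hg
        exact hZ σ f hf
      rw [← Finset.sum_sdiff hsub]
      refine add_mem (ihZ _ (Finset.sdiff_ssubset hsub ⟨f, self_mem_orbit f⟩)
        (fun σ g hg => sdiff_orbit_invariant hZ f σ g hg)) ?_
      rw [Finset.sum_congr rfl (g := fun h => c f • fmap (e h)) fun h hh => by
        obtain ⟨σ, rfl⟩ := mem_orbit.mp hh; rw [hcinv], ← Finset.smul_sum]
      refine Subalgebra.smul_mem _ ?_ _
      have himg : ∑ h ∈ orbit f, fmap (e h) =
          ∑ h ∈ (orbit f).image (fun g x => some (g x)), lt' (R := R) (id : A → A) h := by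
        rw [Finset.sum_image fun x _ y _ he => funext fun z => Option.some_injective _ (congrFun he z)]
        exact Finset.sum_congr rfl fun h _ => hfe h
      rw [himg]
      refine sum_mem n A id _ (fun σ g hg => ?_) fun g _ => le_trans (Finset.card_le_univ _) (Fintype.card_fin n).le
      obtain ⟨h, hh, rfl⟩ := Finset.mem_image.mp hg
      exact Finset.mem_image.mpr ⟨h ∘ σ, orbit_invariant σ hh, rfl⟩
  · rintro _ ⟨a, j, rfl⟩ σ
    exact sigma_invariant a j σ

end Groth.Agent.H27Misc.SymTenGen
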